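import Mathlib.RingTheory.AdicCompletion.RingHom
import Mathlib.RingTheory.LocalRing.MaximalIdeal.Basic
import Mathlib.AlgebraicGeometry.AffineScheme
import Mathlib.AlgebraicGeometry.Stalk
import Mathlib.AlgebraicGeometry.Limits
import Mathlib.RingTheory.Nilpotent.Lemmas
import Mathlib.RingTheory.Ideal.Quotient.Operations

/-!
# Morphisms from the spectrum of a ring complete for an ideal

* `range_subset_of_closedPoint` : a morphism from the spectrum of a local ring whose closed point goes into an open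
  subscheme has its range there.
* `hom_ext_local` / `exists_hom_local` : `B` local, `I` an ideal inside the maximal ideal, `B` `I`-adically complete:
  morphisms `Spec B → X` are the compatible families `Spec (B / I ^ n) → X`, `X` any scheme.
* `hom_ext_pi` : two morphisms from `Spec R` which agree on the pieces of a finite product decomposition are equal.
-/

set_option autoImplicit false
universe u

open CategoryTheory CategoryTheory.Limits AlgebraicGeometry IsLocalRing

namespace K13.AdicHom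

/-- A morphism from a local scheme whose closed point lands in an open has its range there. -/
lemma range_subset_of_closedPoint {R : Type u} [CommRing R] [IsLocalRing R] {X : Scheme.{u}}
    (f : Spec (CommRingCat.of R) ⟶ X) (V : X.Opens) (h : f (closedPoint R) ∈ V) : Set.range f ⊆ Set.range V.ι := by
  rw [Scheme.Opens.range_ι]
  have h1 : (f ⁻¹ᵁ V : TopologicalSpace.Opens (PrimeSpectrum R)) = ⊤ :=
    (closedPoint_mem_iff (R := R) (f ⁻¹ᵁ V)).mp h
  rintro _ ⟨y, rfl⟩
  have h2 : y ∈ (f ⁻¹ᵁ V : TopologicalSpace.Opens (PrimeSpectrum R)) := by rw [h1]; trivial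
  exact h2

section localCase

variable {B : Type u} [CommRing B] (I : Ideal B)

/-- the closed immersion `Spec (B / I ^ n) → Spec B` -/
noncomputable abbrev inc (n : ℕ) : Spec (CommRingCat.of (B ⧸ I ^ n)) ⟶ Spec (CommRingCat.of B) :=
  Spec.map (CommRingCat.ofHom (Ideal.Quotient.mk (I ^ n)))

/-- the closed immersion `Spec (B / I ^ a) → Spec (B / I ^ b)` -/
noncomputable abbrev tra {a b : ℕ} (h : a ≤ b) :
    Spec (CommRingCat.of (B ⧸ I ^ a)) ⟶ Spec (CommRingCat.of (B ⧸ I ^ b)) :=
  Spec.map (CommRingCat.ofHom (Ideal.Quotient.factor (Ideal.pow_le_pow_right h)))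

lemma tra_inc {a b : ℕ} (h : a ≤ b) : tra I h ≫ inc I b = inc I a := by
  rw [← Spec.map_comp]
  rfl

lemma tra_tra {a b c : ℕ} (h : a ≤ b) (h' : b ≤ c) : tra I h ≫ tra I h' = tra I (h.trans h') := by
  rw [← Spec.map_comp, ← CommRingCat.ofHom_comp]
  congr 2
  exact Ideal.Quotient.ringHom_ext rfl

lemma tra_self {a : ℕ} : tra I (le_refl a) = 𝟙 _ := by
  have : Ideal.Quotient.factor (Ideal.pow_le_pow_right (I := I) (le_refl a)) = RingHom.id _ :=
    Ideal.Quotient.ringHom_ext rfl
  rw [tra, this]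
  exact Spec.map_id _

/-- compatibility of consecutive members gives compatibility -/
lemma compat_of_succ {X : Scheme.{u}} (a : ∀ n, Spec (CommRingCat.of (B ⧸ I ^ n)) ⟶ X)
    (ha : ∀ n, tra I (Nat.le_succ n) ≫ a (n + 1) = a n) (m n : ℕ) (h : m ≤ n) : tra I h ≫ a n = a m := by
  induction n, h using Nat.le_induction with
  | base => rw [tra_self, Category.id_comp]
  | succ n h ih => rw [← tra_tra I h (Nat.le_succ n), Category.assoc, ha, ih]

variable {I} [IsLocalRing B]

/-- Two morphisms from `Spec B` agreeing on all `Spec (B / I ^ n)` are equal. -/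
theorem hom_ext_local (hI : I ≤ maximalIdeal B) [IsHausdorff I B] {X : Scheme.{u}}
    (f g : Spec (CommRingCat.of B) ⟶ X) (h : ∀ n, inc I n ≫ f = inc I n ≫ g) : f = g := by
  have hne : I ^ 1 ≠ ⊤ := by
    rw [pow_one]
    exact fun h' => (maximalIdeal.isMaximal B).ne_top (top_le_iff.mp (h' ▸ hI))
  have hnt : Nontrivial (B ⧸ I ^ 1) := Ideal.Quotient.nontrivial_iff.mpr hne
  let z : PrimeSpectrum (B ⧸ I ^ 1) := Classical.arbitrary _
  let z' : Spec (CommRingCat.of (B ⧸ I ^ 1)) := z
  have hloc : IsLocalRing (B ⧸ I ^ 1) := IsLocalRing.of_surjective' _ Ideal.Quotient.mk_surjective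
  let c : Spec (CommRingCat.of (B ⧸ I ^ 1)) := closedPoint (B ⧸ I ^ 1)
  have hc : inc I 1 c = closedPoint B := by
    have : IsLocalHom (Ideal.Quotient.mk (I ^ 1)) := IsLocalHom.of_surjective _ Ideal.Quotient.mk_surjective
    exact comap_closedPoint (Ideal.Quotient.mk (I ^ 1))
  have hfg : f (closedPoint B) = g (closedPoint B) := by
    have h1 := congrArg (fun k => k c) (h 1)
    simp only [Scheme.Hom.comp_apply] at h1
    rwa [hc] at h1
  obtain ⟨V, hV, hxV, -⟩ := exists_isAffineOpen_mem_and_subset (x := f (closedPoint B)) (U := ⊤) trivial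
  have hrf := range_subset_of_closedPoint f V hxV
  have hrg := range_subset_of_closedPoint g V (hfg ▸ hxV)
  obtain ⟨f', rfl⟩ : ∃ f' : Spec (CommRingCat.of B) ⟶ V.toScheme, f = f' ≫ V.ι :=
    ⟨IsOpenImmersion.lift V.ι f hrf, (IsOpenImmersion.lift_fac _ _ _).symm⟩
  obtain ⟨g', rfl⟩ : ∃ g' : Spec (CommRingCat.of B) ⟶ V.toScheme, g = g' ≫ V.ι :=
    ⟨IsOpenImmersion.lift V.ι g hrg, (IsOpenImmersion.lift_fac _ _ _).symm⟩
  have : IsAffine V.toScheme := hV
  congr 1
  let e := V.toScheme.isoSpec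
  rw [← cancel_mono e.hom]
  obtain ⟨φ, hφ⟩ := Spec.map_surjective (f' ≫ e.hom)
  obtain ⟨ψ, hψ⟩ := Spec.map_surjective (g' ≫ e.hom)
  rw [← hφ, ← hψ]
  have h1 : ∀ n x, φ.hom x - ψ.hom x ∈ I ^ n := fun n x => by
    have h2 := h n
    rw [← Category.assoc, ← Category.assoc, cancel_mono, ← cancel_mono e.hom, Category.assoc, Category.assoc,
      ← hφ, ← hψ, ← Spec.map_comp, ← Spec.map_comp] at h2
    have h3 := congrArg (fun k => k.hom x) (Spec.map_injective h2)
    exact (Ideal.Quotient.mk_eq_mk_iff_sub_mem _ _).mp h3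
  congr 1
  ext x
  have h3 : φ.hom x - ψ.hom x = 0 := by
    refine IsHausdorff.haus (inferInstance : IsHausdorff I B) _ fun n => ?_
    rw [SModEq.zero, smul_eq_mul, Ideal.mul_top]
    exact h1 n x
  exact sub_eq_zero.mp h3

/-- Compatible families of morphisms from the `Spec (B / I ^ n)` come from a morphism from `Spec B`. -/
theorem exists_hom_local (hI : I ≤ maximalIdeal B) [IsAdicComplete I B] {X : Scheme.{u}}
    (a : ∀ n, Spec (CommRingCat.of (B ⧸ I ^ n)) ⟶ X)
    (ha : ∀ n, tra I (Nat.le_succ n) ≫ a (n + 1) = a n) :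
    ∃ a' : Spec (CommRingCat.of B) ⟶ X, ∀ n, inc I n ≫ a' = a n := by
  have ha := compat_of_succ I a ha
  have hne : ∀ n, 1 ≤ n → I ^ n ≠ ⊤ := fun n hn h' =>
    (maximalIdeal.isMaximal B).ne_top (top_le_iff.mp (h' ▸ (Ideal.pow_le_self (by omega)).trans hI))
  have hnt : ∀ n, 1 ≤ n → Nontrivial (B ⧸ I ^ n) := fun n hn => Ideal.Quotient.nontrivial_iff.mpr (hne n hn)
  have hloc : ∀ n, 1 ≤ n → IsLocalRing (B ⧸ I ^ n) := fun n hn => by
    have := hnt n hn
    exact IsLocalRing.of_surjective' _ Ideal.Quotient.mk_surjective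
  have := hloc 1 le_rfl
  obtain ⟨V, hV, hxV, -⟩ := exists_isAffineOpen_mem_and_subset (x := a 1 (closedPoint (B ⧸ I ^ 1))) (U := ⊤) trivial
  have hrange : ∀ n, Set.range (a n) ⊆ Set.range V.ι := by
    intro n
    rcases Nat.eq_zero_or_pos n with rfl | hn
    · rintro _ ⟨y, rfl⟩
      exfalso
      have h1 : Subsingleton (B ⧸ I ^ 0) := by
        rw [pow_zero, Ideal.one_eq_top]
        exact Ideal.Quotient.subsingleton_iff.mpr rfl
      exact IsEmpty.false (α := PrimeSpectrum (B ⧸ I ^ 0)) y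
    · have hn' : 1 ≤ n := hn
      have := hloc n hn'
      refine range_subset_of_closedPoint _ V ?_
      have h2 : tra I hn' (closedPoint (B ⧸ I ^ 1)) = closedPoint (B ⧸ I ^ n) := by
        have h3 : Function.Surjective (Ideal.Quotient.factor (Ideal.pow_le_pow_right (I := I) hn')) :=
          Ideal.Quotient.factor_surjective _
        have : IsLocalHom (Ideal.Quotient.factor (Ideal.pow_le_pow_right (I := I) hn')) :=
          IsLocalHom.of_surjective _ h3
        exact comap_closedPoint (Ideal.Quotient.factor (Ideal.pow_le_pow_right (I := I) hn'))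
      rw [← h2, ← Scheme.Hom.comp_apply, ha]
      exact hxV
  let b : ∀ n, Spec (CommRingCat.of (B ⧸ I ^ n)) ⟶ V.toScheme := fun n =>
    IsOpenImmersion.lift V.ι (a n) (hrange n)
  have hb : ∀ n, b n ≫ V.ι = a n := fun n => IsOpenImmersion.lift_fac _ _ _
  have hbc : ∀ (m n : ℕ) (h : m ≤ n), tra I h ≫ b n = b m := fun m n h => by
    rw [← cancel_mono V.ι, Category.assoc, hb, hb, ha]
  have : IsAffine V.toScheme := hV
  let C : Type u := Γ(V.toScheme, ⊤)
  let e : V.toScheme ≅ Spec (CommRingCat.of C) := V.toScheme.isoSpec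
  have hφ : ∀ n, ∃ φ : C →+* B ⧸ I ^ n, b n ≫ e.hom = Spec.map (CommRingCat.ofHom φ) := fun n => by
    obtain ⟨ψ, hψ⟩ := Spec.map_surjective (b n ≫ e.hom)
    exact ⟨ψ.hom, hψ.symm⟩
  choose φ hφ using hφ
  have hφc : ∀ {m n : ℕ} (h : m ≤ n), (Ideal.Quotient.factorPow I h).comp (φ n) = φ m := by
    intro m n h
    have h1 := congrArg (fun k => k ≫ e.hom) (hbc m n h)
    simp only [Category.assoc, hφ] at h1
    rw [← Spec.map_comp, ← CommRingCat.ofHom_comp] at h1
    exact congrArg CommRingCat.Hom.hom (Spec.map_injective h1)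
  let φ' : C →+* B := IsAdicComplete.liftRingHom I φ hφc
  have hφ' : ∀ n, (Ideal.Quotient.mk (I ^ n)).comp φ' = φ n := fun n =>
    RingHom.ext fun x => IsAdicComplete.mk_liftRingHom _ _ _ _ x
  refine ⟨Spec.map (CommRingCat.ofHom φ') ≫ e.inv ≫ V.ι, fun n => ?_⟩
  rw [← Category.assoc, ← Spec.map_comp, ← CommRingCat.ofHom_comp, hφ', ← hφ, Category.assoc,
    Iso.hom_inv_id_assoc, hb]

end localCase

/-- Two morphisms from `Spec R` agreeing on the pieces of a finite product decomposition of `R` are equal. -/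
theorem hom_ext_pi {R : Type u} [CommRing R] {ι : Type u} [Finite ι] (A : ι → Type u) [∀ i, CommRing (A i)]
    (φ : ∀ i, R →+* A i) (hφ : Function.Bijective (RingHom.pi φ)) {X : Scheme.{u}}
    (f g : Spec (CommRingCat.of R) ⟶ X)
    (h : ∀ i, Spec.map (CommRingCat.ofHom (φ i)) ≫ f = Spec.map (CommRingCat.ofHom (φ i)) ≫ g) : f = g := by
  have h1 : IsIso (CommRingCat.ofHom (RingHom.pi φ)) :=
    (ConcreteCategory.isIso_iff_bijective _).mpr hφ
  rw [← cancel_epi (Spec.map (CommRingCat.ofHom (RingHom.pi φ)))]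
  rw [← cancel_epi (sigmaSpec fun i => CommRingCat.of (A i))]
  refine Sigma.hom_ext _ _ fun i => ?_
  have h2 : CommRingCat.ofHom (RingHom.pi φ) ≫ CommRingCat.ofHom (Pi.evalRingHom (fun i => A i) i) =
      CommRingCat.ofHom (φ i) := rfl
  have h3 : Sigma.ι (fun i => Spec (CommRingCat.of (A i))) i ≫ sigmaSpec (fun i => CommRingCat.of (A i)) =
      Spec.map (CommRingCat.ofHom (Pi.evalRingHom (fun i => A i) i)) := ι_sigmaSpec _ _
  have h4 : Spec.map (CommRingCat.ofHom (Pi.evalRingHom (fun i => A i) i)) ≫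
      Spec.map (CommRingCat.ofHom (RingHom.pi φ)) = Spec.map (CommRingCat.ofHom (φ i)) := by
    rw [← Spec.map_comp]; rfl
  have h5 : ∀ k : Spec (CommRingCat.of R) ⟶ X, Sigma.ι (fun i => Spec (CommRingCat.of (A i))) i ≫
      sigmaSpec (fun i => CommRingCat.of (A i)) ≫ Spec.map (CommRingCat.ofHom (RingHom.pi φ)) ≫ k =
      Spec.map (CommRingCat.ofHom (φ i)) ≫ k := fun k => by
    rw [← Category.assoc, h3, ← Category.assoc, h4]
  rw [h5, h5]
  exact h i

/-- Morphisms on the pieces of a finite product decomposition glue. -/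
theorem exists_hom_pi {R : Type u} [CommRing R] {ι : Type u} [Finite ι] (A : ι → Type u) [∀ i, CommRing (A i)]
    (φ : ∀ i, R →+* A i) (hφ : Function.Bijective (RingHom.pi φ)) {X : Scheme.{u}}
    (f : ∀ i, Spec (CommRingCat.of (A i)) ⟶ X) :
    ∃ g : Spec (CommRingCat.of R) ⟶ X, ∀ i, Spec.map (CommRingCat.ofHom (φ i)) ≫ g = f i := by
  have h1 : IsIso (CommRingCat.ofHom (RingHom.pi φ)) :=
    (ConcreteCategory.isIso_iff_bijective _).mpr hφ
  refine ⟨inv (sigmaSpec (fun i => CommRingCat.of (A i)) ≫ Spec.map (CommRingCat.ofHom (RingHom.pi φ))) ≫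
    Sigma.desc f, fun i => ?_⟩
  have h3 : Sigma.ι (fun i => Spec (CommRingCat.of (A i))) i ≫ sigmaSpec (fun i => CommRingCat.of (A i)) =
      Spec.map (CommRingCat.ofHom (Pi.evalRingHom (fun i => A i) i)) := ι_sigmaSpec _ _
  have h4 : Spec.map (CommRingCat.ofHom (Pi.evalRingHom (fun i => A i) i)) ≫
      Spec.map (CommRingCat.ofHom (RingHom.pi φ)) = Spec.map (CommRingCat.ofHom (φ i)) := by
    rw [← Spec.map_comp]; rfl
  rw [← h4, ← h3, Category.assoc, Category.assoc, ← Category.assoc (sigmaSpec _), IsIso.hom_inv_id_assoc]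
  exact Sigma.ι_desc _ _

end K13.AdicHom
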