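import Groth.Agent.Sga3B.MaxTorNear900
import Groth.Agent.Sga3B.KerGrp
import Groth.Agent.Sga3B.DSPts
import Groth.Agent.SGA3x.K7.MTHaar
import Groth.Agent.SGA3x.K7.DSProp

/-!
# The `n`-torsion of a group of multiplicative type
-/

set_option autoImplicit false

universe u

open CategoryTheory MonoidalCategory CartesianMonoidalCategory MonObj GrpObj AlgebraicGeometry Limits
open Groth.Agent Groth.Agent.Sga3B

namespace K13.NTorsion

variable {S S' : Scheme.{u}}

/-- Groups of multiplicative type are commutative. -/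
theorem mul_comm_of_isMT {T : Over S} [GrpObj T] (h : K7.MTHaar.IsMT T) (X : Over S)
    (x y : X ⟶ T) : x * y = y * x := by
  obtain ⟨S', f, _, _, -, hf⟩ := h
  apply MaxTorNear900.eq_of_bc f
  rw [Functor.map_mul, Functor.map_mul]
  apply MaxTorNear900.eq_of_local
  intro s'
  obtain ⟨U, hU, M, _, ⟨e⟩⟩ := hf s'
  refine ⟨U, hU, ?_⟩
  rw [Functor.map_mul, Functor.map_mul]
  exact MaxTorNear900.mul_comm_of_iso (BcIso.bcCompIso U.ι f T).symm
    (fun X x y => MaxTorNear900.mul_comm_of_iso e (fun X x y => Par.CanRig.ds_mul_comm x y) X x y) _ _ _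

/-- `ℓ : L ⟶ H` is the `n`-torsion subgroup. -/
structure IsTors (n : ℕ) {L H : Over S} [GrpObj L] [GrpObj H] (ℓ : L ⟶ H) : Prop where
  mon : IsMonHom ℓ
  mono : Mono ℓ
  pts : ∀ (X : Over S) (h : X ⟶ H), (∃ y : X ⟶ L, y ≫ ℓ = h) ↔ h ^ n = 1

lemma pow_comp {X G H : Over S} [GrpObj G] [GrpObj H] (x : X ⟶ G) (f : G ⟶ H) [IsMonHom f] (n : ℕ) :
    (x ^ n) ≫ f = (x ≫ f) ^ n := by
  induction n with
  | zero => rw [pow_zero, pow_zero, MonObj.one_comp]
  | succ n ih => rw [pow_succ, pow_succ, MonObj.mul_comp, ih]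

/-- Existence of the `n`-torsion of a commutative group. -/
theorem exists_tors (n : ℕ) {H : Over S} [GrpObj H] (hc : ∀ (X : Over S) (x y : X ⟶ H), x * y = y * x)
    [IsSeparated H.hom] :
    ∃ (L : Over S) (_ : GrpObj L) (ℓ : L ⟶ H), IsTors n ℓ ∧ IsClosedImmersion ℓ.left := by
  have hm : IsMonHom (𝟙 H ^ n : H ⟶ H) := IsoFam.isMonHom_of_mul _ fun T x y => by
    rw [MonObj.comp_pow, MonObj.comp_pow, MonObj.comp_pow, Category.comp_id, Category.comp_id, Category.comp_id]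
    exact (Commute.mul_pow (hc T x y) n)
  obtain ⟨inst, hi⟩ := KerGrp.exists_grpObj (𝟙 H ^ n : H ⟶ H)
  refine ⟨KerGrp.kerObj (𝟙 H ^ n : H ⟶ H), inst, KerGrp.kerι _, ⟨hi, inferInstance, fun X h => ⟨?_, fun h1 => ?_⟩⟩,
    inferInstance⟩
  · rintro ⟨y, rfl⟩
    have h2 := congrArg (fun k => y ≫ k) (KerGrp.kerι_comp (𝟙 H ^ n : H ⟶ H))
    simp only [MonObj.comp_one, MonObj.comp_pow, Category.comp_id] at h2
    exact h2
  · exact KerGrp.exists_lift _ h (by rw [MonObj.comp_pow, Category.comp_id, h1])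

/-- Base change. -/
theorem IsTors.bc {n : ℕ} {L H : Over S} [GrpObj L] [GrpObj H] {ℓ : L ⟶ H} (h : IsTors n ℓ) (f : S' ⟶ S) :
    IsTors n ((Over.pullback f).map ℓ) := by
  have h1 := h.mon
  have h2 := h.mono
  refine ⟨inferInstance, inferInstance, fun X x => ?_⟩
  have hpow : (BcPts.bcEquiv f X H).symm (x ^ n) = ((BcPts.bcEquiv f X H).symm x) ^ n :=
    map_pow (BcPts.bcMulEquiv f X H).symm x n
  have hone : (BcPts.bcEquiv f X H).symm 1 = 1 := map_one (BcPts.bcMulEquiv f X H).symm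
  have h3 := h.pts ((Over.map f).obj X) ((BcPts.bcEquiv f X H).symm x)
  rw [← hpow, ← hone, (BcPts.bcEquiv f X H).symm.injective.eq_iff] at h3
  rw [← h3]
  constructor
  · rintro ⟨y, rfl⟩
    exact ⟨(BcPts.bcEquiv f X L).symm y, (BcPts.bcEquiv_symm_comp f y ℓ).symm⟩
  · rintro ⟨y, hy⟩
    refine ⟨BcPts.bcEquiv f X L y, ?_⟩
    rw [← BcPts.bcEquiv_comp, hy, Equiv.apply_symm_apply]

/-- Transport along an isomorphism of the ambient group. -/
theorem IsTors.comp_iso {n : ℕ} {L H H' : Over S} [GrpObj L] [GrpObj H] [GrpObj H'] {ℓ : L ⟶ H} (h : IsTors n ℓ)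
    (e : Grp.mk H ≅ Grp.mk H') : IsTors n (ℓ ≫ e.hom.hom.hom) := by
  have h1 := h.mon
  have h2 := h.mono
  have h3 : IsMonHom e.hom.hom.hom := e.hom.hom.isMonHom_hom
  have h3' : IsMonHom e.inv.hom.hom := e.inv.hom.isMonHom_hom
  have h4 : e.hom.hom.hom ≫ e.inv.hom.hom = 𝟙 _ := congrArg (fun k => k.hom.hom) e.hom_inv_id
  have h5 : e.inv.hom.hom ≫ e.hom.hom.hom = 𝟙 _ := congrArg (fun k => k.hom.hom) e.inv_hom_id
  have h6 : IsIso e.hom.hom.hom := ⟨_, h4, h5⟩
  refine ⟨inferInstance, inferInstance, fun X x => ?_⟩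
  have h7 := h.pts X (x ≫ e.inv.hom.hom)
  rw [← pow_comp] at h7
  have h8 : (x ^ n) ≫ e.inv.hom.hom = 1 ↔ x ^ n = 1 := by
    constructor
    · intro h9
      have := congrArg (fun k => k ≫ e.hom.hom.hom) h9
      simp only [Category.assoc, h5, Category.comp_id, MonObj.one_comp] at this
      exact this
    · intro h9
      rw [h9, MonObj.one_comp]
  rw [← h8, ← h7]
  constructor
  · rintro ⟨y, rfl⟩
    exact ⟨y, by simp only [Category.assoc, h4, Category.comp_id]⟩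
  · rintro ⟨y, hy⟩
    exact ⟨y, by rw [← Category.assoc, hy, Category.assoc, h5, Category.comp_id]⟩

/-- Uniqueness. -/
theorem IsTors.iso {n : ℕ} {L L' H : Over S} [GrpObj L] [GrpObj L'] [GrpObj H] {ℓ : L ⟶ H} {ℓ' : L' ⟶ H}
    (h : IsTors n ℓ) (h' : IsTors n ℓ') : Nonempty (Grp.mk L ≅ Grp.mk L') := by
  have h1 := h.mon
  have h2 := h.mono
  have h3 := h'.mon
  have h4 := h'.mono
  obtain ⟨a, ha⟩ := (h'.pts L ℓ).2 ((h.pts L ℓ).1 ⟨𝟙 _, Category.id_comp _⟩)
  obtain ⟨b, hb⟩ := (h.pts L' ℓ').2 ((h'.pts L' ℓ').1 ⟨𝟙 _, Category.id_comp _⟩)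
  have ham : IsMonHom a := IsoFam.isMonHom_of_mul _ fun T x y => by
    rw [← cancel_mono ℓ', Category.assoc, MonObj.mul_comp (x ≫ a), Category.assoc, Category.assoc, ha, MonObj.mul_comp]
  let e : L ≅ L' := ⟨a, b, by rw [← cancel_mono ℓ, Category.assoc, hb, ha, Category.id_comp],
    by rw [← cancel_mono ℓ', Category.assoc, ha, hb, Category.id_comp]⟩
  have : IsMonHom e.hom := ham
  exact ⟨Grp.mkIso' e⟩

section ds

variable (S) (n : ℕ) (M : Type) [AddCommGroup M]

/-- `nM`. -/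
abbrev nM : AddSubgroup M := (nsmulAddMonoidHom (α := M) n).range

variable {M} in
lemma dsChar_pow {T : Over S} (x : T ⟶ Red.DS S M) (m : M) :
    DSPts.dsChar (x ^ n) (Multiplicative.ofAdd m) = DSPts.dsChar x (Multiplicative.ofAdd (n • m)) := by
  have h1 : DSPts.dsChar (x ^ n) = (DSPts.dsChar x) ^ n := map_pow (DSPts.dsEquiv T M).symm x n
  rw [h1, MonoidHom.pow_apply, ofAdd_nsmul, map_pow]

lemma isMonHom_DSmap {N N' : Type} [AddCommGroup N] [AddCommGroup N'] (φ : N →+ N') : IsMonHom (Red.DSmap S φ) :=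
  IsoFam.isMonHom_of_mul _ fun T x y => by
    apply (DSPts.dsEquiv T N).symm.injective
    change DSPts.dsChar _ = DSPts.dsChar _
    rw [DSPts.dsChar_DSmap, DSPts.dsChar_mul, DSPts.dsChar_mul, DSPts.dsChar_DSmap, DSPts.dsChar_DSmap]
    rfl

/-- The `n`-torsion of `D(M)` is `D(M/nM)`. -/
theorem isTors_DS : IsTors n (Red.DSmap S (QuotientAddGroup.mk' (nM n M))) := by
  refine ⟨isMonHom_DSmap S _, ?_, fun T x => ?_⟩
  · have := K7.DSProp.mono_DSmap_left (S := S) (QuotientAddGroup.mk' (nM n M)) (QuotientAddGroup.mk'_surjective _)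
    exact (Over.forget _).mono_of_mono_map this
  · have h1 : x ^ n = 1 ↔ ∀ m : M, DSPts.dsChar x (Multiplicative.ofAdd (n • m)) = 1 := by
      constructor
      · intro h m
        rw [← dsChar_pow, h]
        have : DSPts.dsChar (1 : T ⟶ Red.DS S M) = 1 := map_one (DSPts.dsEquiv T M).symm
        rw [this]
        rfl
      · intro h
        apply (DSPts.dsEquiv T M).symm.injective
        rw [map_one]
        refine MonoidHom.ext fun m => ?_
        exact (dsChar_pow S n x m.toAdd).trans (h m.toAdd)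
    rw [h1]
    constructor
    · rintro ⟨y, rfl⟩ m
      rw [DSPts.dsChar_DSmap]
      change DSPts.dsChar y (Multiplicative.ofAdd (QuotientAddGroup.mk' (nM n M) (n • m))) = 1
      have h2 : QuotientAddGroup.mk' (nM n M) (n • m) = 0 := by
        rw [QuotientAddGroup.mk'_apply, QuotientAddGroup.eq_zero_iff]
        exact ⟨m, rfl⟩
      rw [h2, ofAdd_zero, map_one]
    · intro h
      let φ : M →+ Additive Γ(T.left, ⊤) := AddMonoidHom.toMultiplicativeLeft.symm (DSPts.dsChar x)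
      let ψ : M ⧸ nM n M →+ Additive Γ(T.left, ⊤) := QuotientAddGroup.lift (nM n M) φ (by
        rintro _ ⟨m, rfl⟩
        exact congrArg Additive.ofMul (h m))
      refine ⟨DSPts.dsEquiv T _ (AddMonoidHom.toMultiplicativeLeft ψ), ?_⟩
      rw [DSPts.dsEquiv_DSmap]
      apply (DSPts.dsEquiv T M).symm.injective
      rw [MulEquiv.symm_apply_apply]
      rfl

end ds

/-- The `n`-torsion of a group of multiplicative type is of multiplicative type. -/
theorem isMT {n : ℕ} {L H : Over S} [GrpObj L] [GrpObj H] {ℓ : L ⟶ H} (h : IsTors n ℓ) (hH : K7.MTHaar.IsMT H) :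
    K7.MTHaar.IsMT L := by
  obtain ⟨S', f, hf1, hf2, hf3, hf⟩ := hH
  refine ⟨S', f, hf1, hf2, hf3, fun s' => ?_⟩
  obtain ⟨U, hU, M, _, ⟨e⟩⟩ := hf s'
  refine ⟨U, hU, M ⧸ nM n M, inferInstance, ?_⟩
  exact ((h.bc (U.ι ≫ f)).comp_iso e).iso (isTors_DS _ n M)

end K13.NTorsion
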