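import Groth.Agent.SGA3x.K13.MTLiftProps
import Groth.Agent.SGA3x.K6.Basic
import Groth.Statements.S8396

/-!
# Lifting finite étale central subgroups of multiplicative type along nil ideals

S8386 from S8396.
-/

set_option autoImplicit false

universe u

open CategoryTheory MonoidalCategory CartesianMonoidalCategory MonObj GrpObj AlgebraicGeometry Limits
open Groth.Agent Groth.Agent.Sga3B K10.MTLoc K13.MTLift

namespace K13.CentralEtale

variable {A : Type u} [CommRing A] {J : Ideal A}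

/-- a morphism locally of finite type whose reduction modulo a nil ideal is a monomorphism is a monomorphism -/
theorem mono_of_reduction (hJ : ∀ x ∈ J, IsNilpotent x) {H G : Over (Spec (CommRingCat.of A))} (u : H ⟶ G)
    [LocallyOfFiniteType u.left] (h : Mono ((Over.pullback (cl J)).map u).left) : Mono u.left := by
  refine K6.Basic.mono_of_fibres u fun s => ?_
  let f := (Spec (CommRingCat.of A)).fromSpecResidueField s
  obtain ⟨p, hp⟩ := exists_factor_field (K := (Spec (CommRingCat.of A)).residueField s) hJ f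
  have hsq1 := K6.Basic.isPullback_map (cl J) u
  have hsq2 := K6.Basic.isPullback_map f u
  let a : pullback G.hom f ⟶ pullback G.hom (cl J) := pullback.lift (pullback.fst G.hom f) (pullback.snd G.hom f ≫ p)
    (by rw [Category.assoc, hp]; exact pullback.condition)
  have ha : a ≫ pullback.fst G.hom (cl J) = pullback.fst G.hom f := pullback.lift_fst _ _ _
  have hsq3 : IsPullback (pullback.fst H.hom f) ((Over.pullback f).map u).left u.left
      (a ≫ pullback.fst G.hom (cl J)) := by rw [ha]; exact hsq2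
  have hsq4 := IsPullback.of_right' hsq3 hsq1
  exact MorphismProperty.of_isPullback (P := MorphismProperty.monomorphisms Scheme.{u}) hsq4 h

/-- an isomorphism in `Over S` from an isomorphism of group objects -/
noncomputable def isoOf {S : Scheme.{u}} {X Y : Over S} [GrpObj X] [GrpObj Y] (e : Grp.mk X ≅ Grp.mk Y) : X ≅ Y :=
  (Grp.forget _).mapIso e

instance {S : Scheme.{u}} {X Y : Over S} [GrpObj X] [GrpObj Y] (e : Grp.mk X ≅ Grp.mk Y) : IsMonHom (isoOf e).hom :=
  e.hom.hom.isMonHom_hom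

instance {S : Scheme.{u}} {X Y : Over S} [GrpObj X] [GrpObj Y] (e : Grp.mk X ≅ Grp.mk Y) : IsMonHom (isoOf e).inv :=
  e.inv.hom.isMonHom_hom

/-- a morphism whose composite with a monomorphic homomorphism is a homomorphism is a homomorphism -/
lemma isMonHom_of_comp_mono {C : Type*} [Category C] [CartesianMonoidalCategory C] {X Y Z : C} [MonObj X] [MonObj Y]
    [MonObj Z] (f : X ⟶ Y) (g : Y ⟶ Z) [IsMonHom g] [Mono g] (h : IsMonHom (f ≫ g)) : IsMonHom f where
  one_hom := by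
    rw [← cancel_mono g, Category.assoc, h.one_hom, IsMonHom.one_hom]
  mul_hom := by
    rw [← cancel_mono g, Category.assoc, h.mul_hom, Category.assoc, IsMonHom.mul_hom]
    simp only [← Category.assoc]
    congr 1
    ext1 <;> simp

section main

variable (h8396 : type_of% @SGA3x.GrothFrozen.S8396.{u})

include h8396

theorem main (hJ : ∀ x ∈ J, IsNilpotent x) (G : Over (Spec (CommRingCat.of A))) [GrpObj G] [Flat G.hom]
    [QuasiCompact G.hom] [QuasiSeparated G.hom] [LocallyOfFinitePresentation G.hom]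
    (H₀ : Over (Spec (CommRingCat.of (A ⧸ J)))) [GrpObj H₀]
    (j₀ : H₀ ⟶ Red.bc (Spec.map (CommRingCat.ofHom (Ideal.Quotient.mk J))) G) [IsMonHom j₀] [Mono j₀]
    [Smooth H₀.hom] [IsFinite H₀.hom] (hm₀ : SGA3x.IsMultTypeFT H₀)
    (hc₀ : (∀ (X : Over _) (x : X ⟶ _) (g : X ⟶ Red.bc (Spec.map (CommRingCat.ofHom (Ideal.Quotient.mk J))) G), (x ≫ j₀) * g = g * (x ≫ j₀))) :
    (∃ (H : Over (Spec (CommRingCat.of A))) (_ : GrpObj H) (j : H ⟶ G), IsMonHom j ∧ Mono j ∧ SGA3x.IsMultTypeFT H ∧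
      (∃ e : Red.bc (Spec.map (CommRingCat.ofHom (Ideal.Quotient.mk J))) H ≅ H₀, e.hom ≫ j₀ = (Over.pullback (Spec.map (CommRingCat.ofHom (Ideal.Quotient.mk J)))).map j) ∧
      (∀ (X : Over _) (x : X ⟶ _) (g : X ⟶ G), (x ≫ j) * g = g * (x ≫ j)) ∧
      ∀ (H' : Over (Spec (CommRingCat.of A))) [GrpObj H'] (j' : H' ⟶ G) [IsMonHom j'] [Mono j'], SGA3x.IsMultTypeFT H' →
        (∃ e' : Red.bc (Spec.map (CommRingCat.ofHom (Ideal.Quotient.mk J))) H' ≅ H₀, e'.hom ≫ j₀ = (Over.pullback (Spec.map (CommRingCat.ofHom (Ideal.Quotient.mk J)))).map j') →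
        ∃ φ : H' ≅ H, φ.hom ≫ j = j') := by
  -- smoothness and finiteness of lifts
  have hprops : ∀ (H' : Over (Spec (CommRingCat.of A))) [GrpObj H'], SGA3x.IsMultTypeFT H' →
      (Red.bc (cl J) H' ≅ H₀) → Smooth H'.hom ∧ IsFinite H'.hom := fun H' _ hH' e => by
    have i1 := K10.MTLoc.isAffineHom hH'
    have i2 := K10.MTLoc.locallyOfFinitePresentation hH'
    have i3 := K10.MTLoc.flat hH'
    exact ⟨smooth_of_reduction hJ e inferInstance, isFinite_of_reduction hJ e inferInstance⟩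
  obtain ⟨H, _, hH, ⟨e⟩⟩ := exists_lift J hJ H₀ hm₀
  let u₀ : Red.bc (cl J) H ⟶ Red.bc (cl J) G := (isoOf e).hom ≫ j₀
  obtain ⟨i1, i2⟩ := hprops H hH (isoOf e)
  obtain ⟨j, hj, hj₀, hjc, hju⟩ := h8396 A J hJ G H hH u₀ (fun X x g => by
    have := hc₀ X (x ≫ (isoOf e).hom) g
    simpa [u₀] using this)
  have i4 : LocallyOfFiniteType H.hom := inferInstance
  have i5 : LocallyOfFiniteType j.left := by
    have : LocallyOfFiniteType (j.left ≫ G.hom) := by rw [Over.w]; exact i4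
    exact locallyOfFiniteType_of_comp j.left G.hom
  have hmono : Mono j := by
    have h1 : Mono ((Over.pullback (cl J)).map j).left := by
      rw [hj₀]
      have : Mono u₀ := mono_comp _ _
      infer_instance
    have := mono_of_reduction hJ j h1
    exact Over.mono_of_mono_left j
  refine ⟨H, inferInstance, j, hj, hmono, hH, ⟨isoOf e, hj₀.symm⟩, hjc, ?_⟩
  intro H' _ j' _ _ hH' ⟨e', he'⟩
  obtain ⟨k1, k2⟩ := hprops H' hH' e'
  have he'm : IsMonHom e'.hom := isMonHom_of_comp_mono e'.hom j₀ (by rw [he']; infer_instance)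
  have he'i : IsMonHom e'.inv := inferInstance
  have hj₀c : ∀ (X : Over (Spec (CommRingCat.of (A ⧸ J)))) (x y : X ⟶ H₀), x * y = y * x := fun X x y => by
    rw [← cancel_mono j₀, MonObj.mul_comp, MonObj.mul_comp, hc₀]
  have hcH : ∀ (K : Over (Spec (CommRingCat.of (A ⧸ J)))) [GrpObj K] (k : K ⟶ H₀) [IsMonHom k] [Mono k]
      (X : Over (Spec (CommRingCat.of (A ⧸ J)))) (x y : X ⟶ K), x * y = y * x := fun K _ k _ _ X x y => by
    rw [← cancel_mono k, MonObj.mul_comp, MonObj.mul_comp, hj₀c]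
  have fl : ∀ (K : Over (Spec (CommRingCat.of A))), IsFinite K.hom → QuasiCompact K.hom ∧ QuasiSeparated K.hom :=
    fun K _ => ⟨inferInstance, inferInstance⟩
  obtain ⟨q1, q2⟩ := fl H i2
  obtain ⟨q3, q4⟩ := fl H' k2
  obtain ⟨ψ, hψ, hψ₀, -, -⟩ := h8396 A J hJ H H' hH' (e'.hom ≫ (isoOf e).inv) (fun X x g =>
    hcH _ (isoOf e).hom X _ _)
  obtain ⟨ψ', hψ', hψ'₀, -, -⟩ := h8396 A J hJ H' H hH ((isoOf e).hom ≫ e'.inv) (fun X x g =>
    hcH _ e'.hom X _ _)
  obtain ⟨w, hw, hw₀, -, hwu⟩ := h8396 A J hJ H H hH (𝟙 _) (fun X x g => hcH _ (isoOf e).hom X _ _)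
  obtain ⟨w', hw', hw'₀, -, hw'u⟩ := h8396 A J hJ H' H' hH' (𝟙 _) (fun X x g => hcH _ e'.hom X _ _)
  have h1 : ψ ≫ ψ' = 𝟙 H' := by
    rw [hw'u (ψ ≫ ψ') inferInstance (by
      rw [Functor.map_comp]
      refine (congrArg₂ (· ≫ ·) hψ₀ hψ'₀).trans ?_
      simp), hw'u (𝟙 H') inferInstance (CategoryTheory.Functor.map_id _ _)]
  have h2 : ψ' ≫ ψ = 𝟙 H := by
    rw [hwu (ψ' ≫ ψ) inferInstance (by
      rw [Functor.map_comp]
      refine (congrArg₂ (· ≫ ·) hψ'₀ hψ₀).trans ?_
      simp), hwu (𝟙 H) inferInstance (CategoryTheory.Functor.map_id _ _)]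
  refine ⟨⟨ψ, ψ', h1, h2⟩, ?_⟩
  obtain ⟨v, hv, hv₀, -, hvu⟩ := h8396 A J hJ G H' hH' (e'.hom ≫ j₀) (fun X x g => by
    have := hc₀ X (x ≫ e'.hom) g
    simpa using this)
  change ψ ≫ j = j'
  rw [hvu (ψ ≫ j) inferInstance (by
    rw [Functor.map_comp]
    refine (congrArg₂ (· ≫ ·) hψ₀ hj₀).trans ?_
    simp [u₀]), hvu j' inferInstance he'.symm]

end main

end K13.CentralEtale
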