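import Groth.Agent.SGA3x.K13.FiniteAdic
import Groth.Agent.SGA3.K210.LimHom

/-!
# Morphisms from finite schemes over a complete Noetherian local ring, in terms of base changes

`A` a complete Noetherian local ring, `S = Spec A`, `S_n = Spec (A/m^n)`, `X` finite over `S`, `Y` over `S`.

* `hom_ext_bc`: two morphisms `X ⟶ Y` with the same base changes to all `S_n` agree;
* `exists_hom_bc`: a compatible system of morphisms `X_n ⟶ Y_n` comes from a morphism `X ⟶ Y`.
-/

set_option autoImplicit false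

universe u

open CategoryTheory MonoidalCategory CartesianMonoidalCategory MonObj GrpObj AlgebraicGeometry Limits
open IsLocalRing K210.LimHom

namespace K13.AdicBc

section sub

variable {A B : Type u} [CommRing A] [CommRing B] [Algebra A B] (I : Ideal A)

/-- The closed subscheme of `Spec A` defined by `I`. -/
noncomputable abbrev cl (I : Ideal A) : Spec (CommRingCat.of (A ⧸ I)) ⟶ Spec (CommRingCat.of A) :=
  Spec.map (CommRingCat.ofHom (Ideal.Quotient.mk I))

/-- `Spec B` over `Spec A`. -/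
noncomputable abbrev SB (A B : Type u) [CommRing A] [CommRing B] [Algebra A B] : Over (Spec (CommRingCat.of A)) :=
  Over.mk (Spec.map (CommRingCat.ofHom (algebraMap A B)))

/-- The structure morphism `Spec (B/IB) ⟶ Spec (A/I)`. -/
noncomputable abbrev q (A B : Type u) [CommRing A] [CommRing B] [Algebra A B] (I : Ideal A) :
    Spec (CommRingCat.of (B ⧸ I.map (algebraMap A B))) ⟶ Spec (CommRingCat.of (A ⧸ I)) :=
  Spec.map (CommRingCat.ofHom (Ideal.quotientMap (I.map (algebraMap A B)) (algebraMap A B) Ideal.le_comap_map))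

lemma q_cl : q A B I ≫ cl I = cl (I.map (algebraMap A B)) ≫ Spec.map (CommRingCat.ofHom (algebraMap A B)) := by
  rw [← Spec.map_comp, ← Spec.map_comp]
  rfl

/-- `Spec (B/IB) ⟶ Spec B ×_{Spec A} Spec (A/I)`. -/
noncomputable def toPb : Spec (CommRingCat.of (B ⧸ I.map (algebraMap A B))) ⟶ pullback (SB A B).hom (cl I) :=
  pullback.lift (cl (I.map (algebraMap A B))) (q A B I) (q_cl I).symm

@[reassoc (attr := simp)]
lemma toPb_fst : toPb (B := B) I ≫ pullback.fst (SB A B).hom (cl I) = cl (I.map (algebraMap A B)) :=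
  pullback.lift_fst _ _ _

@[reassoc (attr := simp)]
lemma toPb_snd : toPb (B := B) I ≫ pullback.snd (SB A B).hom (cl I) = q A B I :=
  pullback.lift_snd _ _ _

lemma exists_factor {P : Scheme.{u}} [IsAffine P] (b : P ⟶ Spec (CommRingCat.of B))
    (c : P ⟶ Spec (CommRingCat.of (A ⧸ I)))
    (h : b ≫ Spec.map (CommRingCat.ofHom (algebraMap A B)) = c ≫ cl I) :
    ∃ ν : P ⟶ Spec (CommRingCat.of (B ⧸ I.map (algebraMap A B))), ν ≫ cl (I.map (algebraMap A B)) = b := by
  obtain ⟨φ, hφ⟩ := Spec.map_surjective (P.isoSpec.inv ≫ b)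
  obtain ⟨ψ, hψ⟩ := Spec.map_surjective (P.isoSpec.inv ≫ c)
  have h1 : CommRingCat.ofHom (algebraMap A B) ≫ φ = CommRingCat.ofHom (Ideal.Quotient.mk I) ≫ ψ := by
    apply Spec.map_injective
    rw [Spec.map_comp, Spec.map_comp, hφ, hψ, Category.assoc, Category.assoc, h]
  have h2 : ∀ a ∈ I.map (algebraMap A B), φ.hom a = 0 := by
    have : I.map (algebraMap A B) ≤ RingHom.ker φ.hom := by
      rw [Ideal.map_le_iff_le_comap]
      intro a ha
      rw [Ideal.mem_comap, RingHom.mem_ker]
      have h3 := congrArg (fun k => k.hom a) h1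
      simp only [CommRingCat.hom_comp, CommRingCat.hom_ofHom, RingHom.comp_apply] at h3
      rw [h3, Ideal.Quotient.eq_zero_iff_mem.2 ha, map_zero]
    exact fun a ha => this ha
  refine ⟨P.isoSpec.hom ≫ Spec.map (CommRingCat.ofHom (Ideal.Quotient.lift _ φ.hom h2)), ?_⟩
  rw [Category.assoc, ← Spec.map_comp, ← Iso.eq_inv_comp, ← hφ]
  rfl

lemma exists_inv : ∃ ν : pullback (SB A B).hom (cl I) ⟶ Spec (CommRingCat.of (B ⧸ I.map (algebraMap A B))),
    ν ≫ toPb I = 𝟙 _ := by
  have haff : IsAffine (pullback (SB A B).hom (cl I)) :=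
    inferInstanceAs (IsAffine (pullback (Spec.map (CommRingCat.ofHom (algebraMap A B))) (cl I)))
  obtain ⟨ν, hν⟩ := exists_factor I (pullback.fst (SB A B).hom (cl I)) (pullback.snd (SB A B).hom (cl I))
    pullback.condition
  have hm' : IsClosedImmersion (cl I) := IsClosedImmersion.spec_of_surjective _ Ideal.Quotient.mk_surjective
  have hm : Mono (cl I) := inferInstance
  refine ⟨ν, pullback.hom_ext ?_ ?_⟩
  · rw [Category.assoc, toPb_fst, hν, Category.id_comp]
  · rw [← cancel_mono (cl I), Category.id_comp]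
    simp only [Category.assoc]
    rw [toPb_snd_assoc, q_cl, reassoc_of% hν]
    exact pullback.condition

end sub

variable {A : Type u} [CommRing A] [IsLocalRing A] [IsNoetherianRing A] [IsAdicComplete (maximalIdeal A) A]

/-- The structure morphism of `S_n = Spec (A/m^n)`. -/
noncomputable abbrev f (A : Type u) [CommRing A] [IsLocalRing A] (n : ℕ) :
    Spec (CommRingCat.of (A ⧸ maximalIdeal A ^ n)) ⟶ Spec (CommRingCat.of A) := cl (maximalIdeal A ^ n)

/-- The transition morphism `S_n ⟶ S_{n+1}`. -/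
noncomputable abbrev t (A : Type u) [CommRing A] [IsLocalRing A] (n : ℕ) :
    Spec (CommRingCat.of (A ⧸ maximalIdeal A ^ n)) ⟶ Spec (CommRingCat.of (A ⧸ maximalIdeal A ^ (n + 1))) :=
  Spec.map (CommRingCat.ofHom (Ideal.Quotient.factor (Ideal.pow_le_pow_right (Nat.le_succ n))))

omit [IsNoetherianRing A] [IsAdicComplete (maximalIdeal A) A] in
lemma t_f (n : ℕ) : t A n ≫ f A (n + 1) = f A n := by
  rw [← Spec.map_comp]
  rfl

section aff

variable {B : Type u} [CommRing B] [Algebra A B] [Module.Finite A B]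

theorem hom_ext_aff {Y : Over (Spec (CommRingCat.of A))} {a b : SB A B ⟶ Y}
    (h : ∀ n, (Over.pullback (f A n)).map a = (Over.pullback (f A n)).map b) : a = b := by
  ext1
  refine K13.FiniteAdic.hom_ext (A := A) (B := B) _ _ fun n => ?_
  have h1 := (map_eq_map_iff (f A n) a b).1 (h n)
  have h2 := congrArg (fun k => toPb (B := B) (maximalIdeal A ^ n) ≫ k) h1
  simp only [← Category.assoc, toPb_fst] at h2
  exact h2

@[reassoc]
lemma bcCompIso_inv_left_fst {S S₁ S₂ : Scheme.{u}} (g : S₂ ⟶ S₁) (f : S₁ ⟶ S) {d : S₂ ⟶ S} (h : g ≫ f = d)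
    (X : Over S) : (ActBC.bcCompIso g f X h).inv.left ≫ pullback.fst (Red.bc f X).hom g =
      pullback.lift (pullback.fst X.hom d) (pullback.snd X.hom d ≫ g)
        (by rw [Category.assoc, h, pullback.condition]) := by
  have h1 : IsIso (ActBC.bcCompIso g f X h).hom.left :=
    inferInstanceAs (IsIso ((Over.forget _).map (ActBC.bcCompIso g f X h).hom))
  rw [← cancel_epi (ActBC.bcCompIso g f X h).hom.left, ← Category.assoc, ← Over.comp_left, Iso.hom_inv_id,
    Over.id_left, Category.id_comp]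
  apply pullback.hom_ext
  · rw [Category.assoc, pullback.lift_fst, ActBC.bcCompIso_hom_left_fst]
  · rw [Category.assoc, pullback.lift_snd, ActBC.bcCompIso_hom_left_snd_assoc]
    exact pullback.condition

@[reassoc]
lemma mv_left_fst {S S₁ S₂ : Scheme.{u}} (g : S₂ ⟶ S₁) (f : S₁ ⟶ S) {d : S₂ ⟶ S} (h : g ≫ f = d) {X Y : Over S}
    (v : Red.bc f X ⟶ Red.bc f Y) :
    (mv g f h v).left ≫ pullback.fst Y.hom d =
      pullback.lift (pullback.fst X.hom d) (pullback.snd X.hom d ≫ g)
        (by rw [Category.assoc, h, pullback.condition]) ≫ v.left ≫ pullback.fst Y.hom f := by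
  rw [mv, Over.comp_left, Over.comp_left, Category.assoc, Category.assoc, ActBC.bcCompIso_hom_left_fst,
    ActBC.pullback_map_left_fst_assoc, bcCompIso_inv_left_fst_assoc]

omit [IsNoetherianRing A] [IsAdicComplete (maximalIdeal A) A] [Module.Finite A B] in
lemma factor_toPb (n : ℕ) :
    Spec.map (CommRingCat.ofHom (Ideal.Quotient.factor
          (Ideal.map_mono (f := algebraMap A B) (Ideal.pow_le_pow_right (I := maximalIdeal A) (Nat.le_succ n))))) ≫
        toPb (B := B) (maximalIdeal A ^ (n + 1)) =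
      toPb (B := B) (maximalIdeal A ^ n) ≫ pullback.lift (pullback.fst (SB A B).hom (f A n))
        (pullback.snd (SB A B).hom (f A n) ≫ t A n) (by rw [Category.assoc, t_f, pullback.condition]) := by
  apply pullback.hom_ext
  · rw [Category.assoc, toPb_fst, Category.assoc, pullback.lift_fst, toPb_fst, ← Spec.map_comp]
    rfl
  · rw [Category.assoc, toPb_snd, Category.assoc, pullback.lift_snd, toPb_snd_assoc, ← Spec.map_comp,
      ← Spec.map_comp]
    congr 1
    ext a
    rfl

theorem exists_hom_aff {Y : Over (Spec (CommRingCat.of A))}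
    (w : ∀ n, Red.bc (f A n) (SB A B) ⟶ Red.bc (f A n) Y)
    (hw : ∀ n, mv (t A n) (f A (n + 1)) (t_f n) (w (n + 1)) = w n) :
    ∃ a : SB A B ⟶ Y, ∀ n, (Over.pullback (f A n)).map a = w n := by
  obtain ⟨a, ha⟩ := K13.FiniteAdic.exists_hom (A := A) (B := B)
    (fun n => toPb (B := B) (maximalIdeal A ^ n) ≫ (w n).left ≫ pullback.fst Y.hom (f A n)) (fun n => by
      rw [← Category.assoc, factor_toPb, Category.assoc, ← hw n, mv_left_fst])
  have ha' : a ≫ Y.hom = Spec.map (CommRingCat.ofHom (algebraMap A B)) := by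
    refine K13.FiniteAdic.hom_ext (A := A) (B := B) _ _ fun n => ?_
    rw [← Category.assoc, ha, Category.assoc, Category.assoc, pullback.condition]
    have h1 : (w n).left ≫ pullback.snd Y.hom (f A n) = pullback.snd (SB A B).hom (f A n) := Over.w (w n)
    rw [reassoc_of% h1, toPb_snd_assoc, q_cl]
  refine ⟨Over.homMk a ha', fun n => bc_hom_ext _ ?_⟩
  rw [ActBC.pullback_map_left_fst]
  obtain ⟨ν, hν⟩ := exists_inv (B := B) (maximalIdeal A ^ n)
  have h2 : pullback.fst (SB A B).hom (f A n) = ν ≫ cl ((maximalIdeal A ^ n).map (algebraMap A B)) := by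
    rw [← toPb_fst, reassoc_of% hν]
  have h3 := congrArg (fun k => ν ≫ k) (ha n)
  rw [reassoc_of% hν] at h3
  rw [h2, Category.assoc]
  exact h3

end aff

omit [IsLocalRing A] [IsNoetherianRing A] [IsAdicComplete (maximalIdeal A) A] in
/-- Finite schemes over `Spec A` are spectra of finite algebras. -/
theorem exists_SB (X : Over (Spec (CommRingCat.of A))) [IsFinite X.hom] :
    ∃ (B : Type u) (_ : CommRing B) (_ : Algebra A B) (_ : Module.Finite A B), Nonempty (X ≅ SB A B) := by
  have haff : IsAffine X.left := isAffine_of_isAffineHom X.hom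
  obtain ⟨φ, hφ⟩ := Spec.map_surjective (X.left.isoSpec.inv ≫ X.hom)
  let _ : Algebra A Γ(X.left, ⊤) := φ.hom.toAlgebra
  have h1 : IsFinite (Spec.map φ) := by
    rw [hφ]
    infer_instance
  have h2 : Module.Finite A Γ(X.left, ⊤) := (IsFinite.SpecMap_iff _).1 h1
  refine ⟨Γ(X.left, ⊤), inferInstance, inferInstance, h2, ⟨Over.isoMk X.left.isoSpec ?_⟩⟩
  change X.left.isoSpec.hom ≫ Spec.map φ = X.hom
  rw [hφ, Iso.hom_inv_id_assoc]

/-- Two morphisms from a finite scheme with the same base changes to all `Spec (A/m^n)` agree. -/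
theorem hom_ext_bc {X Y : Over (Spec (CommRingCat.of A))} [IsFinite X.hom] {a b : X ⟶ Y}
    (h : ∀ n, (Over.pullback (f A n)).map a = (Over.pullback (f A n)).map b) : a = b := by
  obtain ⟨B, _, _, _, ⟨e⟩⟩ := exists_SB X
  rw [← cancel_epi e.inv]
  refine hom_ext_aff fun n => ?_
  rw [Functor.map_comp, Functor.map_comp, h]


section transport

variable {S S₁ S₂ : Scheme.{u}} (g : S₂ ⟶ S₁) (f₁ : S₁ ⟶ S) {d : S₂ ⟶ S} (h : g ≫ f₁ = d)

lemma bcCompIso_inv_naturality {X X' : Over S} (e : X' ⟶ X) :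
    (ActBC.bcCompIso g f₁ X' h).inv ≫ (Over.pullback g).map ((Over.pullback f₁).map e) =
      (Over.pullback d).map e ≫ (ActBC.bcCompIso g f₁ X h).inv := by
  rw [Iso.inv_comp_eq, ← Category.assoc, Iso.eq_comp_inv, ActBC.bcCompIso_hom_naturality]

lemma mv_comp_map {X X' Y : Over S} (e : X' ⟶ X) (w : Red.bc f₁ X ⟶ Red.bc f₁ Y) :
    mv g f₁ h ((Over.pullback f₁).map e ≫ w) = (Over.pullback d).map e ≫ mv g f₁ h w := by
  unfold mv
  rw [Functor.map_comp, Category.assoc, ← Category.assoc, bcCompIso_inv_naturality, Category.assoc]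

end transport

/-- A compatible system of morphisms `X_n ⟶ Y_n`, `X` finite, comes from a morphism `X ⟶ Y`. -/
theorem exists_hom_bc {X Y : Over (Spec (CommRingCat.of A))} [IsFinite X.hom]
    (w : ∀ n, Red.bc (f A n) X ⟶ Red.bc (f A n) Y)
    (hw : ∀ n, mv (t A n) (f A (n + 1)) (t_f n) (w (n + 1)) = w n) :
    ∃ a : X ⟶ Y, ∀ n, (Over.pullback (f A n)).map a = w n := by
  obtain ⟨B, _, _, _, ⟨e⟩⟩ := exists_SB X
  obtain ⟨a, ha⟩ := exists_hom_aff (A := A) (B := B) (Y := Y)
    (fun n => (Over.pullback (f A n)).map e.inv ≫ w n) (fun n => by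
      rw [mv_comp_map, hw n])
  refine ⟨e.hom ≫ a, fun n => ?_⟩
  rw [Functor.map_comp, ha, ← Category.assoc, ← Functor.map_comp, Iso.hom_inv_id,
    CategoryTheory.Functor.map_id, Category.id_comp]

end K13.AdicBc
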