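import Groth.Agent.SGA3x.K10.MTLoc
import Groth.Agent.Sga3A.TypeLemma

/-!
# Groups of multiplicative type over an affine base: Hopf form and scheme form

* `isQuasiIsotrivial_of_isMultTypeFT`: `SGA3x.IsMultTypeFT (Spec A)` implies `SGA3b.IsQuasiIsotrivial R A`;
* `isMultTypeFT_of_isMultType`: the converse, for groups whose fibres are of finite type.
-/

set_option autoImplicit false

universe u

open CategoryTheory MonoidalCategory CartesianMonoidalCategory MonObj GrpObj AlgebraicGeometry Limits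
open TensorProduct
open Groth.Agent Groth.Agent.Books.AffBridge Groth.Agent.Sga3A Groth.Agent.Sga3A.MTBasis Groth.Agent.Sga3B
open K10.MTLoc

namespace K13.MTHopf

variable {R A : Type u} [CommRing R] [CommRing A] [HopfAlgebra R A]

/-- From the scheme form to the Hopf form. -/
theorem isQuasiIsotrivial_of_isMultTypeFT (h : SGA3x.IsMultTypeFT (SpecOver R A)) :
    SGA3b.IsQuasiIsotrivial R A := by
  choose B hB v M hM hv hs hfg hsp using exists_etale_split_specOver h
  have hopen : ∀ s, IsOpen (Set.range (v s)) := fun s => by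
    have := hv s
    exact (v s).isOpenMap.isOpen_range
  obtain ⟨t, ht⟩ := (isCompact_univ (X := PrimeSpectrum R)).elim_finite_subcover
    (fun s : PrimeSpectrum R => Set.range (v s)) hopen (fun s _ => Set.mem_iUnion.mpr ⟨s, hs s⟩)
  let φ : ∀ s, CommRingCat.of R ⟶ CommRingCat.of (B s) := fun s => Spec.preimage (v s)
  let i1 : ∀ s : t, Algebra R (B s.1) := fun s => (φ s.1).hom.toAlgebra
  have hφ : ∀ s : t, Spec.map (CommRingCat.ofHom (algebraMap R (B s.1))) = v s.1 := fun s => Spec.map_preimage _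
  have i2 : ∀ s : t, Algebra.Etale R (B s.1) := fun s => by
    have h1 : Etale (Spec.map (CommRingCat.ofHom (algebraMap R (B s.1)))) := by rw [hφ]; exact hv s.1
    rw [HasRingHomProperty.Spec_iff (P := @Etale)] at h1
    exact RingHom.etale_algebraMap.mp h1
  have i3 : ∀ s : t, Module.Flat R (B s.1) := fun s => inferInstance
  have i4 : Module.FaithfullyFlat R (∀ s : t, B s.1) := by
    apply TypeLemma.faithfullyFlat_pi
    intro p
    obtain ⟨s, hst, q, hq⟩ := Set.mem_iUnion₂.mp (ht (Set.mem_univ p))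
    refine ⟨⟨s, hst⟩, q, ?_⟩
    rw [← hq]
    exact congrArg (fun k => k q) (hφ ⟨s, hst⟩)
  refine TypeLemma.isQuasiIsotrivial_of_family (fun s : t => B s.1) fun s => ?_
  have h2 : Nonempty (Grp.mk (Red.bc (Spec.map (CommRingCat.ofHom (algebraMap R (B s.1)))) (SpecOver R A)) ≅
      Grp.mk (Red.DS (Spec (CommRingCat.of (B s.1))) (M s.1))) := by
    rw [hφ]; exact hsp s.1
  obtain ⟨g⟩ := (isSplit_iff (M s.1)).mp h2
  exact ⟨Mu.{u} (M s.1), inferInstance, ⟨g.bialgEquiv.symm⟩⟩

/-- the character group is finitely generated if a fibre is of finite type -/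
lemma fg_of_finiteType {S : Type u} [CommRing S] [Algebra R S] [Nontrivial S] {M : Type u} [CommGroup M]
    (e : (S ⊗[R] A) ≃ₐc[S] MonoidAlgebra S M)
    (h : ∀ (T : Type u) [Field T] [Algebra R T], Algebra.FiniteType T (T ⊗[R] A)) : Group.FG M := by
  obtain ⟨m, hm⟩ := Ideal.exists_maximal S
  let T := S ⧸ m
  let _ : Field T := Ideal.Quotient.field m
  have h1 := h T
  let e1 : T ⊗[S] (S ⊗[R] A) ≃ₐ[T] T ⊗[R] A := Algebra.TensorProduct.cancelBaseChange R S T T A
  let e2 : T ⊗[S] (S ⊗[R] A) ≃ₐ[T] T ⊗[S] MonoidAlgebra S M :=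
    Algebra.TensorProduct.congr AlgEquiv.refl (e : (S ⊗[R] A) ≃ₐ[S] MonoidAlgebra S M)
  let e3 : T ⊗[S] MonoidAlgebra S M ≃ₐ[T] MonoidAlgebra T M := MonoidAlgebra.scalarTensorEquiv S T
  have h2 : Algebra.FiniteType T (MonoidAlgebra T M) :=
    Algebra.FiniteType.equiv h1 (e1.symm.trans (e2.trans e3))
  exact MonoidAlgebra.finiteType_iff_group_fg.mp h2

/-- Recognition after a finite jointly surjective family of flat base changes. -/
theorem of_finite_family {N : Type u} [Finite N] (S : N → Type u) [∀ i, CommRing (S i)] [∀ i, Algebra R (S i)]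
    (hfl : ∀ i, Module.Flat R (S i))
    (hs : ∀ p : PrimeSpectrum R, ∃ i, ∃ q : PrimeSpectrum (S i), PrimeSpectrum.comap (algebraMap R (S i)) q = p)
    {T : Over (Spec (CommRingCat.of R))} [GrpObj T]
    (h : ∀ i, SGA3x.IsMultTypeFT (Red.bc (Spec.map (CommRingCat.ofHom (algebraMap R (S i)))) T)) :
    SGA3x.IsMultTypeFT T := by
  let X : N → Scheme.{u} := fun i => Spec (CommRingCat.of (S i))
  let g : ∀ i, X i ⟶ Spec (CommRingCat.of R) := fun i => Spec.map (CommRingCat.ofHom (algebraMap R (S i)))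
  let f : (∐ X) ⟶ Spec (CommRingCat.of R) := Sigma.desc g
  have hg : ∀ i, Flat (g i) := fun i => by
    rw [HasRingHomProperty.Spec_iff (P := @Flat)]
    exact RingHom.flat_algebraMap_iff.mpr (hfl i)
  have hf : Flat f := inferInstanceAs (Flat (Sigma.desc g))
  have hι : ∀ i, Sigma.ι X i ≫ f = g i := fun i => Sigma.ι_desc _ _
  have hsurj : Surjective f := by
    apply Surjective.sigmaDesc_of_union_range_eq_univ
    rw [Set.eq_univ_iff_forall]
    intro s
    obtain ⟨i, q, hq⟩ := hs s
    exact Set.mem_iUnion.mpr ⟨i, q, hq⟩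
  refine of_bc f (fun V hV => ⟨f ⁻¹ᵁ V, ?_, ?_⟩) ?_
  · exact (hV.preimage f).isCompact
  · exact Set.image_preimage_eq _ f.surjective
  · refine of_family (J := N) (S' := X) (Sigma.ι X) (fun i => inferInstance) (fun i => (Sigma.ι X i).isOpenEmbedding.isOpenMap)
      (fun x => ?_) (fun i => ?_)
    · obtain ⟨⟨i, y⟩, rfl⟩ := (sigmaMk X).surjective x
      exact ⟨i, y, by rw [sigmaMk_mk]⟩
    · exact of_iso (BcIso.bcCongrIso (hι i).symm T ≪≫ BcIso.bcCompIso (Sigma.ι X i) f T) (h i)

/-- From the Hopf form to the scheme form, for a group whose fibres are of finite type. -/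
theorem isMultTypeFT_of_isMultType (hA : SGA3b.IsMultType R A)
    (hft : ∀ (T : Type u) [Field T] [Algebra R T], Algebra.FiniteType T (T ⊗[R] A)) :
    SGA3x.IsMultTypeFT (SpecOver R A) := by
  obtain ⟨N, hN, S, i1, i2, hfl, hs, hd⟩ := TypeLemma.IsMultType.exists_family hA
  refine of_finite_family S hfl hs fun i => ?_
  rcases subsingleton_or_nontrivial (S i) with hS | hS
  · refine ⟨Spec (CommRingCat.of (S i)), 𝟙 _, inferInstance, inferInstance, fun V hV => ⟨V, hV.isCompact, by simp⟩,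
      fun s => ?_⟩
    exact (IsEmpty.false (α := PrimeSpectrum (S i)) s).elim
  · obtain ⟨M, hM, ⟨e⟩⟩ := hd i
    have hfg : Group.FG M := fg_of_finiteType e hft
    obtain ⟨M₀, _, hM₀, ⟨φ⟩⟩ := Groth.Agent.Sga3.H829.MultConv.exists_type_equiv M
    refine of_split hM₀ ((isSplit_iff M₀).mpr ⟨?_⟩)
    exact (GBasis.ofBialgEquiv e).reindex (φ.trans MulEquiv.ulift.symm)

end K13.MTHopf
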