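import Groth.Agent.Sga3C.CWFam

/-!
# The transporter of a smooth group with connected fibres into a subgroup

Variant of `Groth.Agent.Sga3C.CWFam.exists_closed` in which only the monomorphism `i : N → M` is assumed locally of finite
presentation (the groups `M`, `N` are arbitrary).
-/

set_option autoImplicit false

namespace K13.Transp

open CategoryTheory Limits MonoidalCategory CartesianMonoidalCategory MonObj GrpObj
  AlgebraicGeometry Groth.Agent.Sga3C Groth.Agent.Sga3C.CWMain Groth.Agent.Sga3C.CWGroup Groth.Agent.Sga3C.CWFam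

universe u

variable {S : Scheme.{u}} {G H M N : Over S} [GrpObj H] [GrpObj M] [GrpObj N]

/-- The points of `G` where a family of homomorphisms from a smooth group with connected fibres goes through the
subgroup `i : N → M` form a closed subscheme of finite presentation; only `i` is assumed of finite presentation. -/
theorem exists_closed [Smooth H.hom] [GeometricallyIrreducible H.hom]
    (i : N ⟶ M) [IsMonHom i] [Mono i] [LocallyOfFinitePresentation i.left]
    (γ : G ⊗ H ⟶ M) (hγ : IsMul γ) :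
    ∃ (Z : Over S) (z : Z ⟶ G), IsClosedImmersion z.left ∧ LocallyOfFinitePresentation z.left ∧
      ∀ (T : Over S) (g : T ⟶ G), (∃ w : T ⟶ Z, w ≫ z = g) ↔
        ∃ a : T ⊗ H ⟶ N, a ≫ i = (g ▷ H) ≫ γ := by
  let f : (G ⊗ H).left ⟶ G.left := (fst G H).left
  have hf : Smooth f := by
    change Smooth (pullback.fst _ _)
    infer_instance
  let j₀ : pullback γ i ⟶ G ⊗ H := pullback.fst γ i
  let j := j₀.left
  have hj : Mono j := inferInstance
  have hilfp : LocallyOfFinitePresentation i.left := inferInstance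
  have hjlfp : LocallyOfFinitePresentation j := by
    have h1 : IsPullback j₀.left (pullback.snd γ i).left γ.left i.left :=
      isPullback_left (IsPullback.of_hasPullback γ i)
    exact MorphismProperty.of_isPullback (P := @LocallyOfFinitePresentation) h1.flip hilfp
  let e₀ : G ⟶ pullback γ i := pullback.lift (lift (𝟙 G) (1 : G ⟶ H)) (1 : G ⟶ N) (by
    rw [hγ.one, one_comp])
  have he₀ : (e₀ ≫ j₀) ≫ fst G H = 𝟙 G := by
    rw [pullback.lift_fst, lift_fst]
  have hs : (e₀.left ≫ j) ≫ f = 𝟙 G.left := by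
    change ((e₀ ≫ j₀) ≫ fst G H).left = 𝟙 G.left
    rw [he₀]
    rfl
  obtain ⟨Z, z, hz1, hz2, hz⟩ := CWMono.exists_closed_representing f j e₀.left hs (by
    intro T g W w hw1 hw2 hw3 c hc
    let T' : Over S := Over.mk (g ≫ G.hom)
    let g' : T' ⟶ G := Over.homMk g
    change Cond f j g'.left
    rw [cond_iff]
    have hpb : IsPullback (g' ▷ H).left (fst T' H).left f g :=
      isPullback_left (isPullback_whiskerRight g' H)
    let w1 : W ⟶ (T' ⊗ H).left := w ≫ hpb.isoPullback.inv
    let W' : Over S := Over.mk (w1 ≫ (T' ⊗ H).hom)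
    let w' : W' ⟶ T' ⊗ H := Over.homMk w1
    have h1 : Flat w'.left := inferInstanceAs (Flat (w ≫ hpb.isoPullback.inv))
    have h2 : LocallyOfFinitePresentation w'.left :=
      inferInstanceAs (LocallyOfFinitePresentation (w ≫ hpb.isoPullback.inv))
    have hw1g : w1 ≫ (g' ▷ H).left = c ≫ j := by
      rw [Category.assoc, hpb.isoPullback_inv_fst, hc]
    let c' : W' ⟶ pullback γ i := Over.homMk c (by
      rw [← Over.w (pullback.fst γ i)]
      change c ≫ j ≫ (G ⊗ H).hom = w1 ≫ (T' ⊗ H).hom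
      rw [← Category.assoc, ← hw1g, Category.assoc]
      congr 1
      exact Over.w (g' ▷ H))
    have hc' : c' ≫ j₀ = w' ≫ (g' ▷ H) := by
      apply Over.OverMorphism.ext
      exact hw1g.symm
    refine exists_lift_of_flat i ((g' ▷ H) ≫ γ) ?_ w' ?_ (c' ≫ pullback.snd γ i) ?_
    · intro U t a b
      simp only [← Category.assoc, lift_whiskerRight]
      exact hγ _ _ _
    · intro t
      obtain ⟨x, hx⟩ := hw3 t
      refine ⟨x, ?_⟩
      rw [← hx]
      have : (w' ≫ fst T' H).left = w ≫ pullback.snd f g := by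
        change w1 ≫ (fst T' H).left = _
        rw [Category.assoc, hpb.isoPullback_inv_snd]
      rw [this]
    · rw [Category.assoc, ← pullback.condition, ← Category.assoc]
      change (c' ≫ j₀) ≫ γ = _
      rw [hc', Category.assoc])
  refine ⟨Over.mk (z ≫ G.hom), Over.homMk z, hz1, hz2, ?_⟩
  intro T g
  rw [← cond_iff, ← hz]
  constructor
  · rintro ⟨w, hw⟩
    refine ⟨w.left, ?_⟩
    rw [← hw]
    rfl
  · rintro ⟨w, hw⟩
    refine ⟨Over.homMk w (by
      change w ≫ z ≫ G.hom = T.hom
      rw [← Category.assoc, hw]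
      exact Over.w g), ?_⟩
    apply Over.OverMorphism.ext
    exact hw

/-- The transporter of `u : H → G` into a subgroup `j : K → G`. -/
theorem exists_transporter {G H K : Over S} [GrpObj G] [GrpObj H] [GrpObj K]
    [Smooth H.hom] [GeometricallyIrreducible H.hom] (i : H ⟶ G) [IsMonHom i] (j : K ⟶ G) [IsMonHom j] [Mono j]
    [LocallyOfFinitePresentation j.left] :
    ∃ (T : Over S) (t : T ⟶ G), IsClosedImmersion t.left ∧ LocallyOfFinitePresentation t.left ∧
      ∀ (X : Over S) (g : X ⟶ G), (∃ x : X ⟶ T, x ≫ t = g) ↔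
        ∀ (X' : Over S) (x : X' ⟶ X) (h : X' ⟶ H), ∃ κ : X' ⟶ K, (x ≫ g) * (h ≫ i) * (x ≫ g)⁻¹ = κ ≫ j := by
  let c : G ⊗ H ⟶ G := fst G H * (snd G H ≫ i) * (fst G H)⁻¹
  have hc : ∀ {U : Over S} (t : U ⟶ G) (a : U ⟶ H), lift t a ≫ c = t * (a ≫ i) * t⁻¹ := by
    intro U t a
    simp only [c, MonObj.comp_mul, GrpObj.comp_inv, lift_fst, lift_snd_assoc]
  have hw : ∀ {T : Over S} (g : T ⟶ G), (g ▷ H) ≫ c =
      (fst T H ≫ g) * (snd T H ≫ i) * (fst T H ≫ g)⁻¹ := by
    intro T g
    simp only [c, MonObj.comp_mul, GrpObj.comp_inv, whiskerRight_fst, whiskerRight_snd_assoc]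
  have hm : IsMul c := by
    intro U t a b
    rw [hc, hc, hc, MonObj.mul_comp]
    group
  obtain ⟨Z, z, hz1, hz2, hz⟩ := exists_closed j c hm
  refine ⟨Z, z, hz1, hz2, fun X g => ?_⟩
  rw [hz]
  constructor
  · rintro ⟨a, ha⟩ X' x h
    refine ⟨lift x h ≫ a, ?_⟩
    rw [Category.assoc, ha, lift_whiskerRight_assoc, hc]
  · intro h
    obtain ⟨κ, hκ⟩ := h (X ⊗ H) (fst X H) (snd X H)
    exact ⟨κ, by rw [hw]; exact hκ.symm⟩

end K13.Transp
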