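import Groth.Agent.SGA3b.K201.Field
import Groth.Agent.Sga3B.RG.BrTorus
import Groth.Agent.Sga3B.RG.BrHc
import Groth.Agent.Sga3B.RG.SimpleOne
import Groth.Agent.Books.AlgPtsSmooth
import Groth.Agent.Sga3A.FibTorus

/-!
# Tori over an algebraically closed field are reductive

* `isTorus_of_closed`: a smooth connected closed subgroup of a torus is a torus.
* `isReductiveOver_of_isTorus`: a torus is reductive.
-/

set_option autoImplicit false

universe u

open CategoryTheory MonoidalCategory CartesianMonoidalCategory MonObj GrpObj AlgebraicGeometry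
open Groth.Agent.Books.AffBridge Groth.Agent.Books.AffBridge2 Groth.Agent.Books.AlgPtsGrp
  Groth.Agent.Books.AlgPts Groth.Agent.Books.AlgPtsGen Groth.Agent.Books.AlgPtsIrred
open Groth.Agent.Sga3B Groth.Agent.Sga3B.RG Groth.Agent.Sga3B.RG.BrTorus
open SGA3b

namespace K13.TorusRed

variable {K : Type u} [Field K] [IsAlgClosed K]

/-- A diagonalisable Hopf algebra of finite type which is a domain is the Hopf algebra of a torus. -/
lemma exists_KZ {B : Type u} [CommRing B] [HopfAlgebra K B] [Algebra.FiniteType K B] [IsDomain B]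
    (h : IsDiag K B) : ∃ n : ℕ, Nonempty (B ≃ₐc[K] KZ K n) := by
  obtain ⟨M, _, ⟨e⟩⟩ := h
  have hdom : IsDomain (MonoidAlgebra K M) := e.symm.toMulEquiv.isDomain _
  have hft : Algebra.FiniteType K (MonoidAlgebra K M) :=
    Algebra.FiniteType.equiv ‹_› (e : B ≃ₐ[K] MonoidAlgebra K M)
  have hfg : Group.FG M := MonoidAlgebra.finiteType_iff_group_fg.1 hft
  let N := Additive M
  have hfin : Module.Finite ℤ N := by
    rw [Module.Finite.iff_addGroup_fg]
    infer_instance
  have key : ∀ (m : M) (n : ℕ), 0 < n → m ^ n = 1 → m = 1 := by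
    intro m n hn hm
    have h1 : (MonoidAlgebra.single m (1 : K)) ^ n = (1 : MonoidAlgebra K M) ^ n := by
      rw [MonoidAlgebra.single_pow, hm, one_pow, one_pow, MonoidAlgebra.one_def]
    obtain ⟨ζ, hζ⟩ := SimpleOne.eq_smul_of_pow_eq (K := K) hn h1
    by_contra hne
    have h2 := congrArg (fun x : MonoidAlgebra K M => x.coeff m) hζ
    simp only [MonoidAlgebra.coeff_single, MonoidAlgebra.one_def, MonoidAlgebra.smul_single] at h2
    rw [Finsupp.single_eq_same, Finsupp.single_eq_of_ne hne] at h2
    exact one_ne_zero h2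
  have htf : Module.IsTorsionFree ℤ N := by
    rw [Module.isTorsionFree_iff_smul_eq_zero]
    intro n m hnm
    by_cases hn : n = 0
    · exact Or.inl hn
    right
    have h1 : (Additive.toMul m) ^ n = 1 := hnm
    have h2 : (Additive.toMul m) ^ n.natAbs = 1 := by
      rcases Int.natAbs_eq n with h | h
      · rw [h, zpow_natCast] at h1; exact h1
      · rw [h, zpow_neg, zpow_natCast, inv_eq_one] at h1; exact h1
    exact key _ _ (Int.natAbs_pos.2 hn) h2
  let b := Module.finBasis ℤ N
  let E : M ≃* Multiplicative (Fin (Module.finrank ℤ N) → ℤ) :=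
    AddEquiv.toMultiplicativeRight b.equivFun.toAddEquiv
  obtain ⟨e'⟩ := Groth.Agent.Sga3A.FibTorus.exists_congr K E
  exact ⟨_, ⟨e.trans e'⟩⟩

/-- A smooth connected closed subgroup of a torus over an algebraically closed field is a torus. -/
theorem isTorus_of_closed {T U : Over (Spec (CommRingCat.of K))} [GrpObj T] [GrpObj U]
    (hT : Red.IsTorus T) (i : U ⟶ T) [IsMonHom i] (hi : IsClosedImmersion i.left)
    (hsm : Smooth U.hom) (hc : ConnectedSpace U.left) : Red.IsTorus U := by
  obtain ⟨n, e, he⟩ := isTorus_iff.1 hT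
  have hTaff : IsAffine T.left := by
    have : IsIso e.hom.left := inferInstanceAs (IsIso ((Over.forget _).map e.hom))
    exact .of_isIso e.hom.left
  have hUaff : IsAffine U.left := by
    have : IsAffineHom i.left := inferInstance
    exact isAffine_of_isAffineHom i.left
  obtain ⟨B, _, _, e', he', hft⟩ := BrHc.exists_hopf_ft U
  have hei : IsMonHom e'.inv := inferInstance
  obtain ⟨π, hπ⟩ := exists_bialgHom_of_isMonHom K (e'.inv ≫ i ≫ e.hom)
  have hcl : IsClosedImmersion (specMap K (π : KZ K n →ₐ[K] B)).left := by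
    rw [hπ]
    have h1 : IsIso e.hom.left := inferInstanceAs (IsIso ((Over.forget _).map e.hom))
    have h2 : IsIso e'.inv.left := inferInstanceAs (IsIso ((Over.forget _).map e'.inv))
    rw [Over.comp_left, Over.comp_left]
    infer_instance
  have hs : Function.Surjective π := (isClosedImmersion_specMap_iff K _).1 hcl
  have hdiag0 : IsDiag K (KZ K n) :=
    ⟨ULift.{u} (Multiplicative (Fin n → ℤ)), inferInstance,
      Groth.Agent.Sga3A.FibTorus.exists_congr K MulEquiv.ulift.symm⟩
  have hdiag : IsDiag K B := K201.Field.isDiag_of_surjective hdiag0 π hs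
  have hvar : IsVar U := Groth.Agent.Books.AlgPtsSmooth.isVar_of_smooth U
  have hUint := hvar.isIntegral
  have hint : IsIntegral (Spec (CommRingCat.of B)) := by
    have h2 : IsIso e'.inv.left := inferInstanceAs (IsIso ((Over.forget _).map e'.inv))
    have hne : Nonempty ↥(Spec (CommRingCat.of B)) := ⟨e'.hom.left hc.toNonempty.some⟩
    have h3 : IsOpenImmersion e'.inv.left := @IsOpenImmersion.of_isIso _ _ e'.inv.left h2
    exact @isIntegral_of_isOpenImmersion _ _ e'.inv.left h3 hUint hne
  have hdom : IsDomain B := (affine_isIntegral_iff (CommRingCat.of B)).mp hint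
  obtain ⟨m, ⟨ε⟩⟩ := exists_KZ hdiag
  refine isTorus_iff.2 ⟨m, e' ≪≫ ⟨specMap K (ε.symm : KZ K m →ₐ[K] B), specMap K (ε : B →ₐ[K] KZ K m), ?_, ?_⟩, ?_⟩
  · rw [← specMap_comp]
    convert specMap_id K using 2
    exact AlgHom.ext fun x => ε.symm_apply_apply x
  · rw [← specMap_comp]
    convert specMap_id K using 2
    exact AlgHom.ext fun x => ε.apply_symm_apply x
  · have h3 : IsMonHom (specMap K (ε.symm : KZ K m →ₐ[K] B)) :=
      isMonHom_specMap K (ε.symm : KZ K m →ₐc[K] B)
    exact inferInstanceAs (IsMonHom (e'.hom ≫ specMap K (ε.symm : KZ K m →ₐ[K] B)))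

/-- A torus over an algebraically closed field is reductive. -/
theorem isReductiveOver_of_isTorus {T : Over (Spec (CommRingCat.of K))} [GrpObj T]
    (hT : Red.IsTorus T) : Red.IsReductiveOver K T := by
  obtain ⟨n, e, he⟩ := isTorus_iff.1 hT
  have h1 : IsIso e.hom.left := inferInstanceAs (IsIso ((Over.forget _).map e.hom))
  refine ⟨.of_isIso e.hom.left, TorusAlgClosed.smooth_of_isTorus hT, ?_, fun U _ i _ hi hsm hc _ hns => ?_⟩
  · have h2 : ConnectedSpace (SpecOver K (KZ K n)).left :=
      inferInstanceAs (ConnectedSpace (PrimeSpectrum (KZ K n)))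
    exact e.hom.left.homeomorph.symm.surjective.connectedSpace e.hom.left.homeomorph.symm.continuous
  · have hU := isTorus_of_closed hT i hi hsm hc
    exact hns U (𝟙 U) hU

end K13.TorusRed
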