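import Groth.Agent.S4125
import Groth.Agent.S3012
import Groth.Agent.Sga3.H786.TCMain
import Groth.Agent.Sga3.H784.NAMain
import Groth.Agent.Sga3B.SmoothNear
import Groth.Agent.SGA3x.K13.TorusRed
import Groth.Prelude.Def_SGA3x

/-!
# The torus locus is open

`isTorus_nhd`: a flat group scheme of finite presentation with affine connected fibres, one fibre of which is a
torus, is a torus over an open neighbourhood.
-/

set_option autoImplicit false

universe u

open CategoryTheory MonoidalCategory CartesianMonoidalCategory MonObj GrpObj AlgebraicGeometry Limits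
open Groth.Agent Groth.Agent.Sga3B Groth.Agent.Sga3.H786.TCInd Groth.Agent.Sga3.H786.TC

namespace K13.TorusNhd

variable {S : Scheme.{u}}

/-- The fibres of a base change along an open immersion. -/
lemma exists_fibreIso {S' : Scheme.{u}} (v : S' ⟶ S) [IsOpenImmersion v] (C : Over S) [GrpObj C] (s' : S') :
    Nonempty (pullback (Red.bc v C).hom (S'.fromSpecResidueField s') ≅
      pullback C.hom (S.fromSpecResidueField (v s'))) := by
  have h0 : Spec.map (v.residueFieldMap s') ≫ S.fromSpecResidueField (v s') = S'.fromSpecResidueField s' ≫ v :=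
    v.SpecMap_residueFieldMap_fromSpecResidueField s'
  let p : Spec (S'.residueField s') ⟶ Spec (S.residueField (v s')) := Spec.map (v.residueFieldMap s')
  have hp : IsIso p := inferInstance
  have e : Grp.mk (Red.bc (S'.fromSpecResidueField s') (Red.bc v C)) ≅
      Grp.mk (Red.bc p (Red.bc (S.fromSpecResidueField (v s')) C)) :=
    (BcIso.bcCompIso _ _ _).symm ≪≫ BcIso.bcCongrIso h0.symm C ≪≫ BcIso.bcCompIso _ _ _
  let e1 : (Red.bc (S'.fromSpecResidueField s') (Red.bc v C)).left ≅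
      (Red.bc p (Red.bc (S.fromSpecResidueField (v s')) C)).left :=
    (Over.forget _).mapIso ((Grp.forget _).mapIso e)
  exact ⟨e1 ≪≫ asIso (pullback.fst (Red.bc (S.fromSpecResidueField (v s')) C).hom p)⟩

lemma isConnected_preimage (C : Over S) (s : S) (h : ConnectedSpace ↥(pullback C.hom (S.fromSpecResidueField s))) :
    _root_.IsConnected (C.hom.base ⁻¹' {s}) := by
  have h1 : Set.range (pullback.fst C.hom (S.fromSpecResidueField s)) = C.hom.base ⁻¹' {s} := by
    rw [Scheme.Pullback.range_fst, Scheme.range_fromSpecResidueField]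
  rw [← h1]
  exact isConnected_range (pullback.fst C.hom (S.fromSpecResidueField s)).continuous

lemma smooth_bc_of_restrict (H : Over S) (V : S.Opens) (h : Smooth (H.hom ∣_ V)) : Smooth (Red.bc V.ι H).hom := by
  have h1 : (Red.bc V.ι H).hom = (pullbackRestrictIsoRestrict H.hom V).hom ≫ (H.hom ∣_ V) := by
    rw [← Iso.inv_comp_eq]
    rfl
  rw [h1]
  infer_instance

lemma smooth_bc_of_le (H : Over S) [GrpObj H] {W V : S.Opens} (h : W ≤ V) (hV : Smooth (Red.bc V.ι H).hom) :
    Smooth (Red.bc W.ι H).hom := by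
  have e : Grp.mk (Red.bc W.ι H) ≅ Grp.mk (Red.bc (S.homOfLE h) (Red.bc V.ι H)) :=
    BcIso.bcCongrIso (S.homOfLE_ι h).symm H ≪≫ BcIso.bcCompIso _ _ _
  have h1 : Smooth (Red.bc (S.homOfLE h) (Red.bc V.ι H)).hom :=
    inferInstanceAs (Smooth (pullback.snd (Red.bc V.ι H).hom (S.homOfLE h)))
  let e1 : Red.bc W.ι H ≅ Red.bc (S.homOfLE h) (Red.bc V.ι H) := (Grp.forget _).mapIso e
  have h2 : IsIso e1.hom.left := inferInstanceAs (IsIso ((Over.forget _).map e1.hom))
  rw [← Over.w e1.hom]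
  infer_instance

/-- Conjugacy of maximal tori in the form used by `S3012`. -/
lemma hconj (K : Type u) [Field K] [IsAlgClosed K] (H : Over (Spec (CommRingCat.of K))) [GrpObj H]
    (hH : Red.IsReductive H) (T T' : Over (Spec (CommRingCat.of K))) [GrpObj T] [GrpObj T'] (i : T ⟶ H) (i' : T' ⟶ H)
    (h : Red.IsMaximalTorus i) (h' : Red.IsMaximalTorus i') :
    ∃ g : 𝟙_ (Over (Spec (CommRingCat.of K))) ⟶ H, ∀ (X : Over (Spec (CommRingCat.of K))) (t : X ⟶ T),
      ∃ t' : X ⟶ T', (toUnit X ≫ g) * (t ≫ i) * (toUnit X ≫ g)⁻¹ = t' ≫ i' := by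
  have h1 : Smooth H.hom := hH.2.1
  obtain ⟨g, φ, hφ⟩ := Groth.Agent.Sga3.H784.NAMain.exists_conjBy i i' h h'
  refine ⟨g, fun X t => ⟨t ≫ φ.hom, ?_⟩⟩
  rw [Category.assoc, ← hφ, MonObj.comp_mul, MonObj.comp_mul, GrpObj.comp_inv, ← Category.assoc t (toUnit T) g,
    toUnit_unique (t ≫ toUnit T) (toUnit X)]

theorem exists_opens_tlocus (H : Over S) [GrpObj H] [Smooth H.hom] [QuasiCompact H.hom] [QuasiSeparated H.hom]
    (hconn : ∀ t : S, ConnectedSpace ↥(pullback H.hom (S.fromSpecResidueField t)))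
    (haff : ∀ t : S, IsAffine (pullback H.hom (S.fromSpecResidueField t)))
    (s : S) (hs : s ∈ tlocus H) : ∃ U : S.Opens, s ∈ U ∧ (U : Set S) ⊆ tlocus H := by
  have h0 : Red.IsTorus (Red.geomFibre s H) := mem_tlocus_iff.mp hs
  obtain ⟨U, hsU, hU⟩ := S4125.result S H haff (fun t => isConnected_preimage H t (hconn t)) s
    (K13.TorusRed.isReductiveOver_of_isTorus h0)
  let s' : U := ⟨s, hsU⟩
  have hs' : s' ∈ tlocus (Red.bc U.ι H) := (mem_tlocus_bc U.ι H s').mpr hs
  have h1 : Red.IsTorus (Red.geomFibre s' (Red.bc U.ι H)) := mem_tlocus_iff.mp hs'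
  obtain ⟨r, ⟨e⟩⟩ := TorusAlgClosed.exists_isSplitTorusWith h1
  let D : Over (U : Scheme.{u}) := Red.DS (U : Scheme.{u}) (Fin r → ℤ)
  have hD : Red.IsSplitTorusWith (Fin r → ℤ) D := ⟨Iso.refl _⟩
  have hDt : Red.IsTorus D := Groth.Agent.Sga3.H786.TCAff.isTorus_of_isSplitTorusWith hD
  obtain ⟨e'⟩ := TorusAlgClosed.isSplitTorusWith_bc (Red.geomPt s') hD
  have i1 : IsAffineHom D.hom := TorusAlgClosed.isAffineHom_of_isTorus hDt
  have i2 : Smooth D.hom := TorusAlgClosed.smooth_of_isTorus hDt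
  have hDc : ∀ t, _root_.IsConnected (D.hom.base ⁻¹' {t}) := fun t =>
    isConnected_fibre D (fun t => mem_tlocus_of_isTorus hDt t) t
  obtain ⟨B, _, v, hv, hsv, ⟨ε⟩⟩ := S3012.result hconj (U : Scheme.{u}) (Red.bc U.ι H) D hU hDc s' ⟨e ≪≫ e'.symm⟩
  have h2 : Red.IsTorus (Red.bc v D) := TorusBc.isTorus_bc v hDt
  have h3 : Red.IsTorus (Red.bc v (Red.bc U.ι H)) := TorusBc.isTorus_of_iso ε.symm h2
  refine ⟨U.ι ''ᵁ ⟨Set.range v, v.isOpenMap.isOpen_range⟩, ⟨s', hsv, rfl⟩, ?_⟩
  rintro _ ⟨t, ht, rfl⟩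
  exact (mem_tlocus_bc U.ι H t).mp (mem_tlocus_of_mem_range v _ h3 t ht)

/-- A flat group scheme of finite presentation with affine connected fibres, one fibre of which is a
torus, is a torus over an open neighbourhood. -/
theorem isTorus_nhd (H : Over S) [GrpObj H]
    [Flat H.hom] [LocallyOfFinitePresentation H.hom] [QuasiCompact H.hom] [QuasiSeparated H.hom]
    (hconn : ∀ t : S, ConnectedSpace ↥(Limits.pullback H.hom (S.fromSpecResidueField t)))
    (haff : ∀ t : S, IsAffine (Limits.pullback H.hom (S.fromSpecResidueField t)))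
    (s : S) (hs : Red.IsTorus (Red.bc (S.fromSpecResidueField s) H)) :
    ∃ U : S.Opens, s ∈ U ∧ Red.IsTorus (Red.bc U.ι H) := by
  have hs' : s ∈ tlocus H := hs
  obtain ⟨V, hsV, hV⟩ := SmoothNear.exists_opens_smooth H s
    (TorusAlgClosed.smooth_of_isTorus (mem_tlocus_iff.mp hs'))
  have hVsm : Smooth (Red.bc V.ι H).hom := smooth_bc_of_restrict H V hV
  let s' : V := ⟨s, hsV⟩
  have i1 : QuasiCompact (Red.bc V.ι H).hom := inferInstanceAs (QuasiCompact (pullback.snd H.hom V.ι))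
  have i2 : QuasiSeparated (Red.bc V.ι H).hom := inferInstanceAs (QuasiSeparated (pullback.snd H.hom V.ι))
  obtain ⟨U, hsU, hU⟩ := exists_opens_tlocus (Red.bc V.ι H) (fun t => by
      obtain ⟨e⟩ := exists_fibreIso V.ι H t
      have := hconn (V.ι t)
      exact e.inv.homeomorph.surjective.connectedSpace e.inv.continuous)
    (fun t => by
      obtain ⟨e⟩ := exists_fibreIso V.ι H t
      have := haff (V.ι t)
      exact .of_isIso e.hom) s' ((mem_tlocus_bc V.ι H s').mpr hs')
  refine ⟨V.ι ''ᵁ U, ⟨s', hsU, rfl⟩, ?_⟩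
  let W : S.Opens := V.ι ''ᵁ U
  have hWV : W ≤ V := by
    rintro _ ⟨t, -, rfl⟩
    exact t.2
  have hWsm : Smooth (Red.bc W.ι H).hom := smooth_bc_of_le H hWV hVsm
  have i3 : QuasiCompact (Red.bc W.ι H).hom := inferInstanceAs (QuasiCompact (pullback.snd H.hom W.ι))
  refine (isTorus (Red.bc W.ι H) fun t => ?_).2
  rw [← mem_tlocus_iff, mem_tlocus_bc]
  obtain ⟨x, hx, hxt⟩ := t.2
  have h5 : W.ι t = V.ι x := hxt.symm
  rw [h5]
  exact (mem_tlocus_bc V.ι H x).mp (hU hx)

end K13.TorusNhd
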