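import Groth.Agent.SGA3x.K13.MTHopf
import Groth.Agent.S2979

/-!
# Lifting groups of multiplicative type along nil ideals

* `exists_lift`: `J` an ideal of `A` all of whose elements are nilpotent; every group of multiplicative type and of finite
  type over `Spec (A / J)` is the base change of such a group over `Spec A`.
-/

set_option autoImplicit false

universe u

open CategoryTheory MonoidalCategory CartesianMonoidalCategory MonObj GrpObj AlgebraicGeometry Limits
open TensorProduct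
open Groth.Agent Groth.Agent.Books.AffBridge Groth.Agent.Sga3A Groth.Agent.Sga3A.MTBasis Groth.Agent.Sga3B
open K10.MTLoc

namespace K13.MTLift

/-- the closed immersion `Spec (A / J) → Spec A` -/
noncomputable abbrev cl {A : Type u} [CommRing A] (J : Ideal A) :
    Spec (CommRingCat.of (A ⧸ J)) ⟶ Spec (CommRingCat.of A) :=
  Spec.map (CommRingCat.ofHom (Ideal.Quotient.mk J))

lemma finitePresentation_of_isMultTypeFT {R A : Type u} [CommRing R] [CommRing A] [HopfAlgebra R A]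
    (h : SGA3x.IsMultTypeFT (SpecOver R A)) : Algebra.FinitePresentation R A := by
  have h2 : LocallyOfFinitePresentation (Spec.map (CommRingCat.ofHom (algebraMap R A))) :=
    locallyOfFinitePresentation h
  rw [HasRingHomProperty.Spec_iff (P := @LocallyOfFinitePresentation)] at h2
  simp only [CommRingCat.hom_ofHom] at h2
  exact RingHom.finitePresentation_algebraMap.mp h2

/-- **Existence of lifts** of groups of multiplicative type and of finite type along nil ideals. -/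
theorem exists_lift {A : Type u} [CommRing A] (J : Ideal A) (hJ : ∀ x ∈ J, IsNilpotent x)
    (H₀ : Over (Spec (CommRingCat.of (A ⧸ J)))) [GrpObj H₀] (h : SGA3x.IsMultTypeFT H₀) :
    ∃ (H : Over (Spec (CommRingCat.of A))) (_ : GrpObj H), SGA3x.IsMultTypeFT H ∧
      Nonempty (Grp.mk (Red.bc (cl J) H) ≅ Grp.mk H₀) := by
  have haff : IsAffine H₀.left := by
    have := isAffineHom h
    exact isAffine_of_isAffineHom H₀.hom
  obtain ⟨B₀, _, _, e₀, he₀⟩ := exists_hopf (A ⧸ J) H₀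
  have h₀ : SGA3x.IsMultTypeFT (SpecOver (A ⧸ J) B₀) := of_iso (Grp.mkIso' e₀) h
  have hfp := finitePresentation_of_isMultTypeFT h₀
  obtain ⟨C, _, _, hC, ⟨ε⟩⟩ := Groth.Agent.S2979.result A J hJ B₀
    (MTHopf.isQuasiIsotrivial_of_isMultTypeFT h₀)
  refine ⟨SpecOver A C, inferInstance, ?_, ?_⟩
  · have hC' : SGA3b.IsMultType A C := by
      obtain ⟨s, hs, h⟩ := hC
      refine ⟨s, hs, fun f hf => ?_⟩
      obtain ⟨R', _, _, -, h2, h3⟩ := h f hf
      exact ⟨R', _, _, h2, h3⟩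
    refine MTHopf.isMultTypeFT_of_isMultType hC' fun T _ _ => ?_
    have hJT : ∀ a : A, a ∈ J → algebraMap A T a = 0 := fun a ha =>
      ((hJ a ha).map (algebraMap A T)).eq_zero
    let _ : Algebra (A ⧸ J) T := (Ideal.Quotient.lift J (algebraMap A T) hJT).toAlgebra
    have : IsScalarTower A (A ⧸ J) T := IsScalarTower.of_algebraMap_eq fun _ => rfl
    have h1 : Algebra.FiniteType T (T ⊗[A ⧸ J] B₀) := inferInstance
    let e1 : T ⊗[A ⧸ J] ((A ⧸ J) ⊗[A] C) ≃ₐ[T] T ⊗[A] C := Algebra.TensorProduct.cancelBaseChange A (A ⧸ J) T T C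
    let e2 : T ⊗[A ⧸ J] ((A ⧸ J) ⊗[A] C) ≃ₐ[T] T ⊗[A ⧸ J] B₀ :=
      Algebra.TensorProduct.congr AlgEquiv.refl (ε : ((A ⧸ J) ⊗[A] C) ≃ₐ[A ⧸ J] B₀)
    exact Algebra.FiniteType.equiv h1 (e2.symm.trans e1)
  · obtain ⟨e1⟩ := Hens.Dict.bc_specOver A C (A ⧸ J)
    obtain ⟨e2⟩ := (Hens.Dict.nonempty_bialgEquiv (A ⧸ J) ((A ⧸ J) ⊗[A] C) B₀).mpr ⟨ε⟩
    exact ⟨e1 ≪≫ e2 ≪≫ (Grp.mkIso' e₀).symm⟩

end K13.MTLift
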