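import Groth.Agent.SGA3x.K13.NTorsion
import Groth.Agent.SGA3x.K13.MTLift
import Groth.Agent.SGA3x.K7.SubLift
import Groth.Agent.SGA3x.K21.MultLoc
import Groth.Agent.S5294
import Groth.Agent.S1316
import Groth.Agent.Sga3B.BorDesc613

/-!
# Lifting subgroups of multiplicative type with prescribed `n`-torsion (S6070)
-/

set_option autoImplicit false

universe u

open CategoryTheory MonoidalCategory CartesianMonoidalCategory MonObj GrpObj AlgebraicGeometry Limits
open TensorProduct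
open Groth.Agent Groth.Agent.Books.AffBridge Groth.Agent.Books.AffBridge2 Groth.Agent.Sga3B
open Groth.Agent.Sga3B.InfConj

namespace K13.SubTors

open K7.SubLift (qJ)

variable {R : Type u} [CommRing R] {J : Ideal R} {G : Over (Spec (CommRingCat.of R))} [GrpObj G]

/-- A group of multiplicative type (fpqc locally diagonalisable) which is locally of finite type is of multiplicative
type and of finite type. -/
theorem isMultTypeFT_of_isMT {H : Over (Spec (CommRingCat.of R))} [GrpObj H] (h : K7.MTHaar.IsMT H)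
    [LocallyOfFiniteType H.hom] : SGA3x.IsMultTypeFT H := by
  obtain ⟨A, _, _, e, he, -, -⟩ := K7.MTHaar.exists_model h
  have h1 := K7.MTQI.isMultType_of_isMT h e
  have hft : Algebra.FiniteType R A := by
    have h2 : LocallyOfFiniteType (SpecOver R A).hom := by
      rw [← Over.w e.inv]
      infer_instance
    exact (locallyOfFiniteType_specOver_iff R A).1 h2
  have h3 : SGA3x.IsMultTypeFT (SpecOver R A) :=
    K13.MTHopf.isMultTypeFT_of_isMultType h1 fun T _ _ => inferInstance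
  exact K10.MTLoc.of_iso (Grp.mkIso' e).symm h3

lemma nil_of_isNilpotent (hJ : IsNilpotent J) : ∀ x ∈ J, IsNilpotent x := by
  intro x hx
  obtain ⟨n, hn⟩ := hJ
  refine ⟨n, ?_⟩
  have := Ideal.pow_mem_pow hx n
  rwa [hn] at this

/-- Lifting of subgroups of multiplicative type, with the type of the lift. -/
theorem exists_subgroup (hJ : IsNilpotent J) (hG : Smooth G.hom)
    (H₀ : Over (Spec (CommRingCat.of (R ⧸ J)))) [GrpObj H₀] (hH₀ : K7.MTHaar.IsMT H₀)
    (j₀ : H₀ ⟶ Red.bc (qJ J) G) [IsMonHom j₀] [IsImmersion j₀.left] :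
    ∃ (H : Over (Spec (CommRingCat.of R))) (_ : GrpObj H) (j : H ⟶ G), IsMonHom j ∧ IsImmersion j.left ∧
      K7.MTHaar.IsMT H ∧ ∃ φ : Grp.mk (Red.bc (qJ J) H) ≅ Grp.mk H₀,
        φ.hom.hom.hom ≫ j₀ = (Over.pullback (qJ J)).map j := by
  have hlft₀ : LocallyOfFiniteType H₀.hom := by
    have h1 : LocallyOfFiniteType (Red.bc (qJ J) G).hom := inferInstanceAs (LocallyOfFiniteType (pullback.snd _ _))
    rw [← Over.w j₀]
    infer_instance
  have hmt₀ := isMultTypeFT_of_isMT hH₀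
  obtain ⟨H, _, hH, ⟨θ⟩⟩ := K13.MTLift.exists_lift J (nil_of_isNilpotent hJ) H₀ hmt₀
  have hHm := K21.MultLoc.isMult_of_isMultTypeFT hH
  obtain ⟨A, _, _, e, he, l, hl⟩ := K7.MTHaar.exists_model hHm
  have hθ : IsMonHom θ.hom.hom.hom := θ.hom.hom.isMonHom_hom
  have hei : IsMonHom e.inv := inferInstance
  let ω : Red.bc (qJ J) (SpecOver R A) ⟶ Red.bc (qJ J) G :=
    (Over.pullback (qJ J)).map e.inv ≫ θ.hom.hom.hom ≫ j₀
  obtain ⟨j', hj', hj'ω⟩ := K7.SubLift.exists_hom_lift (G := G) hJ hG hl ω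
  let j : H ⟶ G := e.hom ≫ j'
  have hjm : IsMonHom j := inferInstance
  have hj0 : θ.hom.hom.hom ≫ j₀ = (Over.pullback (qJ J)).map j := by
    rw [Functor.map_comp, hj'ω, ← Functor.map_comp_assoc, Iso.hom_inv_id, CategoryTheory.Functor.map_id,
      Category.id_comp]
  refine ⟨H, inferInstance, j, hjm, ?_, hHm, θ, hj0⟩
  have hlft : LocallyOfFiniteType H.hom := by
    have := K10.MTLoc.locallyOfFinitePresentation hH
    infer_instance
  have hlj : LocallyOfFiniteType j.left := by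
    have h1 : LocallyOfFiniteType (j.left ≫ G.hom) := by
      rw [Over.w j]; exact hlft
    exact locallyOfFiniteType_of_comp j.left G.hom
  have hpb := K7.Loc.isPullback_map (qJ J) j
  have hlj' : LocallyOfFiniteType ((Over.pullback (qJ J)).map j).left :=
    MorphismProperty.of_isPullback (P := @LocallyOfFiniteType) hpb hlj
  have hth : MoreMor.IsThickening (qJ J) := by
    refine ⟨?_, ?_⟩
    · exact IsClosedImmersion.spec_of_surjective _ Ideal.Quotient.mk_surjective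
    · exact ⟨K7.ActTriv.surjective_specMap_mk hJ⟩
  have hth' : MoreMor.IsThickening (pullback.fst G.hom (qJ J)) := by
    have := hth.1
    have := hth.2
    exact ⟨inferInstance, inferInstance⟩
  refine (S1316.result _ _ _ _ hth' hpb).mp ?_
  rw [← hj0]
  have h0 : IsIso θ.hom.hom.hom := ⟨θ.inv.hom.hom, congrArg (fun k => k.hom.hom) θ.hom_inv_id,
    congrArg (fun k => k.hom.hom) θ.inv_hom_id⟩
  have h1 : IsIso θ.hom.hom.hom.left := inferInstanceAs (IsIso ((Over.forget _).map θ.hom.hom.hom))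
  have h2 : IsImmersion (θ.hom.hom.hom.left ≫ j₀.left) := inferInstance
  exact h2

section pts

variable {S S' : Scheme.{u}} {f : S' ⟶ S} {X : Over S} (p : X ⟶ Over.mk f)

/-- Points of `Y` with values in an `S`-scheme `X` over `S'`, as points of the base change. -/
noncomputable def E (Y : Over S) [GrpObj Y] : (X ⟶ Y) ≃* (Over.mk p.left ⟶ Red.bc f Y) where
  toFun x := BcPts.bcEquiv f _ Y ((BcPts.overIso p).hom ≫ x)
  invFun y := (BcPts.overIso p).inv ≫ (BcPts.bcEquiv f _ Y).symm y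
  left_inv x := by simp
  right_inv y := by simp
  map_mul' x y := by rw [MonObj.comp_mul, BcPts.bcEquiv_mul]

lemma E_comp {Y Z : Over S} [GrpObj Y] [GrpObj Z] (x : X ⟶ Y) (u : Y ⟶ Z) :
    E p Z (x ≫ u) = E p Y x ≫ (Over.pullback f).map u := by
  change BcPts.bcEquiv f _ Z ((BcPts.overIso p).hom ≫ x ≫ u) = _
  rw [← Category.assoc, BcPts.bcEquiv_comp]
  rfl

end pts

theorem main (hJ : IsNilpotent J) (n : ℕ) (hG : Smooth G.hom)
    (H₀ : Over (Spec (CommRingCat.of (R ⧸ J)))) [GrpObj H₀] (hH₀ : K7.MTHaar.IsMT H₀)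
    (j₀ : H₀ ⟶ Red.bc (qJ J) G) [IsMonHom j₀] [IsImmersion j₀.left]
    (L : Over (Spec (CommRingCat.of R))) [GrpObj L] (hL : K7.MTHaar.IsMT L)
    (l : L ⟶ G) [IsMonHom l] [IsImmersion l.left]
    (hL0 : ∀ (X : Over (Spec (CommRingCat.of (R ⧸ J)))) (g : X ⟶ Red.bc (qJ J) G),
      (∃ y : X ⟶ Red.bc (qJ J) L, y ≫ (Over.pullback (qJ J)).map l = g) ↔
        ∃ h : X ⟶ H₀, h ^ n = 1 ∧ h ≫ j₀ = g) :
    ∃ (H : Over (Spec (CommRingCat.of R))) (_ : GrpObj H) (j : H ⟶ G), IsMonHom j ∧ IsImmersion j.left ∧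
      K7.MTHaar.IsMT H ∧
      (∃ φ : Red.bc (qJ J) H ≅ H₀, φ.hom ≫ j₀ = (Over.pullback (qJ J)).map j) ∧
      ∀ (X : Over (Spec (CommRingCat.of R))) (g : X ⟶ G),
        (∃ y : X ⟶ L, y ≫ l = g) ↔ ∃ h : X ⟶ H, h ^ n = 1 ∧ h ≫ j = g := by
  obtain ⟨H, _, j', hj', hj'i, hH, φ, hφ⟩ := exists_subgroup (G := G) hJ hG H₀ hH₀ j₀
  have haff := K7.MTHaar.isAffineHom hH
  obtain ⟨L', _, ℓ, hℓ, hℓc⟩ := NTorsion.exists_tors n (NTorsion.mul_comm_of_isMT hH)
  have hL' := NTorsion.isMT hℓ hH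
  have hℓm := hℓ.mon
  have i1 : IsImmersion (ℓ ≫ j').left := by
    rw [Over.comp_left]
    infer_instance
  have hφm : IsMonHom φ.hom.hom.hom := φ.hom.hom.isMonHom_hom
  have hφm' : IsMonHom φ.inv.hom.hom := φ.inv.hom.isMonHom_hom
  have hφ1 : φ.hom.hom.hom ≫ φ.inv.hom.hom = 𝟙 _ := congrArg (fun k => k.hom.hom) φ.hom_inv_id
  have hφ2 : φ.inv.hom.hom ≫ φ.hom.hom.hom = 𝟙 _ := congrArg (fun k => k.hom.hom) φ.inv_hom_id
  -- the two torsion groups coincide over `S₀`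
  have key : ∀ (X : Over (Spec (CommRingCat.of R))) (p : X ⟶ Over.mk (qJ J)) (g : X ⟶ G),
      (∃ y : X ⟶ L, y ≫ l = g) ↔ ∃ h : X ⟶ H, h ^ n = 1 ∧ h ≫ j' = g := by
    intro X p g
    have h1 := hL0 (Over.mk p.left) (E p G g)
    have h2 : (∃ y : X ⟶ L, y ≫ l = g) ↔
        ∃ y : Over.mk p.left ⟶ Red.bc (qJ J) L, y ≫ (Over.pullback (qJ J)).map l = E p G g := by
      constructor
      · rintro ⟨y, rfl⟩
        exact ⟨E p L y, (E_comp p y l).symm⟩
      · rintro ⟨y, hy⟩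
        refine ⟨(E p L).symm y, (E p G).injective ?_⟩
        rw [E_comp, MulEquiv.apply_symm_apply, hy]
    have h3 : (∃ h : X ⟶ H, h ^ n = 1 ∧ h ≫ j' = g) ↔
        ∃ h : Over.mk p.left ⟶ H₀, h ^ n = 1 ∧ h ≫ j₀ = E p G g := by
      constructor
      · rintro ⟨h, hn, rfl⟩
        refine ⟨E p H h ≫ φ.hom.hom.hom, ?_, ?_⟩
        · rw [← NTorsion.pow_comp, ← map_pow, hn, map_one, MonObj.one_comp]
        · rw [Category.assoc, hφ, E_comp]
      · rintro ⟨h, hn, hh⟩
        refine ⟨(E p H).symm (h ≫ φ.inv.hom.hom), ?_, (E p G).injective ?_⟩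
        · rw [← map_pow, ← NTorsion.pow_comp, hn, MonObj.one_comp, map_one]
        · rw [E_comp, MulEquiv.apply_symm_apply, ← hh, ← hφ, Category.assoc, ← Category.assoc φ.inv.hom.hom,
            hφ2, Category.id_comp]
    rw [h2, h3, h1]
  obtain ⟨g, hg, θ, hθ⟩ := S5294.result J hJ G L' L hG hL' hL (ℓ ≫ j') l
    (1 : Over.mk (Spec.map (CommRingCat.ofHom (Ideal.Quotient.mk J))) ⟶ G) (by
      intro X p
      simp only [MonObj.comp_one, _root_.one_mul, inv_one, _root_.mul_one]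
      constructor
      · intro h
        have := (key X p (h ≫ ℓ ≫ j')).2 ⟨h ≫ ℓ, (hℓ.pts X _).1 ⟨h, rfl⟩, by rw [Category.assoc]⟩
        obtain ⟨y, hy⟩ := this
        exact ⟨y, hy.symm⟩
      · intro h'
        obtain ⟨h, hn, hh⟩ := (key X p (h' ≫ l)).1 ⟨h', rfl⟩
        obtain ⟨y, hy⟩ := (hℓ.pts X h).2 hn
        exact ⟨y, by rw [← hh, ← hy, Category.assoc]⟩)
  let j : H ⟶ G := (toUnit H ≫ g) * j' * (toUnit H ≫ g)⁻¹
  have hj : ∀ {X : Over (Spec (CommRingCat.of R))} (x : X ⟶ H), x ≫ j = (toUnit X ≫ g) * (x ≫ j') * (toUnit X ≫ g)⁻¹ := by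
    intro X x
    rw [MonObj.comp_mul, MonObj.comp_mul, GrpObj.comp_inv, ← Category.assoc x, toUnit_unique (x ≫ toUnit H) (toUnit X)]
  have hjm : IsMonHom j := IsoFam.isMonHom_of_mul _ fun T x y => by
    rw [hj, hj, hj, MonObj.mul_comp]
    group
  have hjc : ∀ {X : Over (Spec (CommRingCat.of R))} (y : X ⟶ L'), y ≫ ℓ ≫ j = y ≫ θ.hom ≫ l := by
    intro X y
    rw [← hθ, ← Category.assoc y ℓ, hj, MonObj.comp_mul, MonObj.comp_mul, GrpObj.comp_inv, ← Category.assoc y (toUnit L'),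
      toUnit_unique (y ≫ toUnit L') (toUnit X), Category.assoc]
  refine ⟨H, inferInstance, j, hjm, ?_, hH, ⟨(Grp.forget _).mapIso φ, ?_⟩, fun X g' => ?_⟩
  · -- immersion: conjugation by `g` is an automorphism of `G`
    let c : G ⟶ G := (toUnit G ≫ g) * 𝟙 G * (toUnit G ≫ g)⁻¹
    let c' : G ⟶ G := (toUnit G ≫ g)⁻¹ * 𝟙 G * (toUnit G ≫ g)
    have hc : ∀ {X : Over (Spec (CommRingCat.of R))} (x : X ⟶ G), x ≫ c = (toUnit X ≫ g) * x * (toUnit X ≫ g)⁻¹ := by
      intro X x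
      rw [MonObj.comp_mul, MonObj.comp_mul, GrpObj.comp_inv, ← Category.assoc x, toUnit_unique (x ≫ toUnit G) (toUnit X),
        Category.comp_id]
    have hc' : ∀ {X : Over (Spec (CommRingCat.of R))} (x : X ⟶ G), x ≫ c' = (toUnit X ≫ g)⁻¹ * x * (toUnit X ≫ g) := by
      intro X x
      rw [MonObj.comp_mul, MonObj.comp_mul, GrpObj.comp_inv, ← Category.assoc x, toUnit_unique (x ≫ toUnit G) (toUnit X),
        Category.comp_id]
    have hciso : IsIso c := ⟨c', by
      rw [hc']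
      change (toUnit G ≫ g)⁻¹ * ((toUnit G ≫ g) * 𝟙 G * (toUnit G ≫ g)⁻¹) * (toUnit G ≫ g) = 𝟙 G
      group, by
      rw [hc]
      change (toUnit G ≫ g) * ((toUnit G ≫ g)⁻¹ * 𝟙 G * (toUnit G ≫ g)) * (toUnit G ≫ g)⁻¹ = 𝟙 G
      group⟩
    have hcl : IsIso c.left := inferInstanceAs (IsIso ((Over.forget _).map c))
    have h1 : j = j' ≫ c := (hc j').symm
    rw [h1, Over.comp_left]
    infer_instance
  · have h1 : (Over.pullback (qJ J)).map j = (Over.pullback (qJ J)).map j' := by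
      refine BorDesc613.eq_of_ev fun T x t => ?_
      rw [BorDesc613.ev_map, BorDesc613.ev_map, hj]
      have h2 : toUnit T ≫ g = 1 := by
        have h3 : toUnit T = t ≫ toUnit _ := toUnit_unique _ _
        rw [h3, Category.assoc]
        exact (congrArg (fun k => t ≫ k) hg).trans (MonObj.comp_one _)
      rw [h2, _root_.one_mul, inv_one, _root_.mul_one]
    rw [h1]
    exact hφ
  · constructor
    · rintro ⟨y, rfl⟩
      refine ⟨y ≫ θ.inv ≫ ℓ, (hℓ.pts X _).1 ⟨y ≫ θ.inv, by rw [Category.assoc]⟩, ?_⟩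
      rw [Category.assoc, Category.assoc, ← Category.assoc y, hjc, Category.assoc, Iso.inv_hom_id_assoc]
    · rintro ⟨h, hn, rfl⟩
      obtain ⟨y, rfl⟩ := (hℓ.pts X h).2 hn
      exact ⟨y ≫ θ.hom, by rw [Category.assoc, Category.assoc, hjc]⟩

end K13.SubTors
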