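import Groth.Agent.SGA3x.K13.AdicHom
import Groth.Agent.Ega2.CompleteFinite
import Groth.Agent.S0499

/-!
# Morphisms from a finite scheme over a complete Noetherian local ring

`A` a complete Noetherian local ring, `B` a finite `A`-algebra, `X` any scheme: a morphism `Spec B → X` is the same thing as
a compatible family of morphisms `Spec (B / m ^ n B) → X`.
-/

set_option autoImplicit false
universe u

open CategoryTheory CategoryTheory.Limits AlgebraicGeometry IsLocalRing

namespace K13.FiniteAdic

open K13.AdicHom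

variable {A : Type u} [CommRing A] [IsLocalRing A] [IsNoetherianRing A] [IsAdicComplete (maximalIdeal A) A]
  {B : Type u} [CommRing B] [Algebra A B] [Module.Finite A B]

/-- The decomposition of a finite algebra over a complete local ring, with what is needed of the pieces. -/
theorem exists_decomp : ∃ (ι : Type u) (_ : Finite ι) (C : ι → Type u) (_ : ∀ i, CommRing (C i))
    (φ : ∀ i, B →+* C i) (_ : ∀ i, IsLocalRing (C i)), Function.Bijective (RingHom.pi φ) ∧
      ∀ i, ((maximalIdeal A).map (algebraMap A B)).map (φ i) ≤ maximalIdeal (C i) ∧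
        IsAdicComplete (((maximalIdeal A).map (algebraMap A B)).map (φ i)) (C i) := by
  have hens : HenselianLocalRing A :=
    { is_henselian := by
        intro f hf a₀ h₁ h₂
        apply HenselianRing.is_henselian (I := maximalIdeal A) f hf a₀ h₁
        exact h₂.map _ }
  obtain ⟨ι, hι, C, hC, hloc, ⟨e⟩⟩ := Groth.Agent.S0499.result A B
  refine ⟨ι, inferInstance, C, hC, fun i => (Pi.evalRingHom C i).comp e.toRingHom, hloc, ?_, fun i => ?_⟩
  · exact e.bijective
  · let ψ : A →+* C i := ((Pi.evalRingHom C i).comp e.toRingHom).comp (algebraMap A B)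
    let := ψ.toAlgebra
    have hsurj : Function.Surjective ((Pi.evalRingHom C i).comp e.toRingHom) :=
      (Function.surjective_eval i).comp e.surjective
    let φ' : B →ₐ[A] C i := { (Pi.evalRingHom C i).comp e.toRingHom with commutes' := fun _ => rfl }
    have hfin : Module.Finite A (C i) := Module.Finite.of_surjective φ'.toLinearMap hsurj
    have h1 : ((maximalIdeal A).map (algebraMap A B)).map ((Pi.evalRingHom C i).comp e.toRingHom) =
        (maximalIdeal A).map (algebraMap A (C i)) := Ideal.map_map _ _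
    rw [h1]
    constructor
    · rw [Ideal.map_le_iff_le_comap]
      have : Algebra.IsIntegral A (C i) := inferInstance
      have h2 : ((maximalIdeal (C i)).comap (algebraMap A (C i))).IsMaximal :=
        Ideal.isMaximal_comap_of_isIntegral_of_isMaximal _
      exact (IsLocalRing.eq_maximalIdeal h2).ge
    · rw [IsAdicComplete.map_algebraMap_iff]
      exact Groth.Agent.Ega2.CompleteFinite.isAdicComplete_of_finite

/-- `S8385`, uniqueness -/
theorem hom_ext {X : Scheme.{u}} (f g : Spec (CommRingCat.of B) ⟶ X)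
    (h : ∀ n : ℕ, Spec.map (CommRingCat.ofHom (Ideal.Quotient.mk (Ideal.map (algebraMap A B) (maximalIdeal A ^ n)))) ≫ f =
      Spec.map (CommRingCat.ofHom (Ideal.Quotient.mk (Ideal.map (algebraMap A B) (maximalIdeal A ^ n)))) ≫ g) :
    f = g := by
  obtain ⟨ι, hι, C, hC, φ, hloc, hbij, hφ⟩ := exists_decomp (A := A) (B := B)
  refine hom_ext_pi C φ hbij f g fun i => ?_
  have := (hφ i).2
  refine hom_ext_local (hφ i).1 _ _ fun n => ?_
  have hle : Ideal.map (algebraMap A B) (maximalIdeal A ^ n) ≤
      ((((maximalIdeal A).map (algebraMap A B)).map (φ i)) ^ n).comap (φ i) := by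
    rw [← Ideal.map_le_iff_le_comap, Ideal.map_pow, Ideal.map_pow]
  have h1 : ∀ k : Spec (CommRingCat.of B) ⟶ X,
      inc (((maximalIdeal A).map (algebraMap A B)).map (φ i)) n ≫ Spec.map (CommRingCat.ofHom (φ i)) ≫ k =
      Spec.map (CommRingCat.ofHom (Ideal.quotientMap _ (φ i) hle)) ≫
        Spec.map (CommRingCat.ofHom (Ideal.Quotient.mk (Ideal.map (algebraMap A B) (maximalIdeal A ^ n)))) ≫ k := fun k => by
    rw [← Category.assoc, ← Category.assoc, ← Spec.map_comp, ← Spec.map_comp]
    rfl
  rw [h1, h1, h]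

/-- `S8385`, existence -/
theorem exists_hom {X : Scheme.{u}}
    (u : (n : ℕ) → (Spec (CommRingCat.of (B ⧸ (Ideal.map (algebraMap A B) (maximalIdeal A ^ n)))) ⟶ X))
    (hu : ∀ n : ℕ, Spec.map (CommRingCat.ofHom (Ideal.Quotient.factor
          (Ideal.map_mono (Ideal.pow_le_pow_right (I := maximalIdeal A) (Nat.le_succ n))))) ≫ u (n + 1) = u n) :
    ∃ f : Spec (CommRingCat.of B) ⟶ X, ∀ n : ℕ,
      Spec.map (CommRingCat.ofHom (Ideal.Quotient.mk (Ideal.map (algebraMap A B) (maximalIdeal A ^ n)))) ≫ f = u n := by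
  obtain ⟨ι, hι, C, hC, φ, hloc, hbij, hφ⟩ := exists_decomp (A := A) (B := B)
  let I := (maximalIdeal A).map (algebraMap A B)
  have hle : ∀ i n, Ideal.map (algebraMap A B) (maximalIdeal A ^ n) ≤ ((I.map (φ i)) ^ n).comap (φ i) := fun i n => by
    rw [← Ideal.map_le_iff_le_comap, Ideal.map_pow, Ideal.map_pow]
  let ρ : ∀ i n, B ⧸ Ideal.map (algebraMap A B) (maximalIdeal A ^ n) →+* C i ⧸ (I.map (φ i)) ^ n :=
    fun i n => Ideal.quotientMap _ (φ i) (hle i n)
  have key : ∀ i, ∃ a : Spec (CommRingCat.of (C i)) ⟶ X, ∀ n, inc (I.map (φ i)) n ≫ a =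
      Spec.map (CommRingCat.ofHom (ρ i n)) ≫ u n := fun i => by
    have := (hφ i).2
    refine exists_hom_local (hφ i).1 (fun n => Spec.map (CommRingCat.ofHom (ρ i n)) ≫ u n) fun n => ?_
    rw [← hu n, ← Category.assoc, ← Category.assoc, ← Spec.map_comp, ← Spec.map_comp, ← CommRingCat.ofHom_comp,
      ← CommRingCat.ofHom_comp]
    congr 3
    exact Ideal.Quotient.ringHom_ext rfl
  choose a ha using key
  obtain ⟨f, hf⟩ := exists_hom_pi C φ hbij a
  refine ⟨f, fun n => ?_⟩
  refine hom_ext_pi (fun i => C i ⧸ (I.map (φ i)) ^ n) (fun i => ρ i n) ?_ _ _ fun i => ?_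
  · have hI : Ideal.map (algebraMap A B) (maximalIdeal A ^ n) = I ^ n := Ideal.map_pow _ _ _
    have hsurj : ∀ i, Function.Surjective (φ i) := fun i y => by
      classical
      obtain ⟨b, hb⟩ := hbij.2 (Pi.single i y)
      refine ⟨b, ?_⟩
      have := congrFun hb i
      simpa using this
    constructor
    · rw [injective_iff_map_eq_zero]
      intro x hx
      obtain ⟨b, rfl⟩ := Ideal.Quotient.mk_surjective x
      rw [Ideal.Quotient.eq_zero_iff_mem, hI]
      have h1 : ∀ i, φ i b ∈ (I ^ n).map (φ i) := fun i => by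
        have h2 := congrFun hx i
        change Ideal.Quotient.mk ((I.map (φ i)) ^ n) (φ i b) = 0 at h2
        rw [Ideal.Quotient.eq_zero_iff_mem, ← Ideal.map_pow] at h2
        exact h2
      have h2 : ∀ i, ∃ c ∈ I ^ n, φ i c = φ i b := fun i =>
        (Ideal.mem_map_iff_of_surjective _ (hsurj i)).mp (h1 i)
      choose c hc hcb using h2
      classical
      have : Fintype ι := Fintype.ofFinite ι
      have h3 : ∀ i, ∃ e : B, ∀ j, φ j e = if j = i then 1 else 0 := fun i => by
        obtain ⟨e, he⟩ := hbij.2 (fun j => if j = i then 1 else 0)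
        exact ⟨e, fun j => congrFun he j⟩
      choose e he using h3
      have h4 : b = ∑ i, e i * c i := by
        refine hbij.1 (funext fun j => ?_)
        change φ j b = φ j _
        rw [map_sum, Finset.sum_eq_single j]
        · rw [map_mul, he, if_pos rfl, one_mul, hcb]
        · intro i _ hij
          rw [map_mul, he, if_neg (Ne.symm hij), zero_mul]
        · intro h; exact absurd (Finset.mem_univ _) h
      rw [h4]
      exact Ideal.sum_mem _ fun i _ => Ideal.mul_mem_left _ _ (hc i)
    · intro y
      choose z hz using fun i => Ideal.Quotient.mk_surjective (y i)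
      obtain ⟨b, hb⟩ := hbij.2 z
      refine ⟨Ideal.Quotient.mk _ b, funext fun i => ?_⟩
      rw [← hz i, ← congrFun hb i]
      rfl
  · rw [← ha i n, ← hf i, ← Category.assoc, ← Category.assoc, ← Spec.map_comp, ← Spec.map_comp]
    rfl

end K13.FiniteAdic
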