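import Groth.Agent.SGA3x.K13.AdicBc
import Groth.Agent.SGA3x.K7.ConjGlobal
import Groth.Agent.SGA3x.K21.MultLoc
import Groth.Agent.Sga3B.BorDesc613

/-!
# Homomorphisms from a finite group of multiplicative type to a smooth group over a complete Noetherian
local ring (S8388)
-/

set_option autoImplicit false

universe u

open CategoryTheory MonoidalCategory CartesianMonoidalCategory MonObj GrpObj AlgebraicGeometry Limits
open IsLocalRing K210.LimHom

namespace K13.LiftAdic

open K13.AdicBc Groth.Agent.Sga3B Groth.Agent.Sga3B.InfConj Groth.Agent.Sga3B.BcPts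

variable {A : Type u} [CommRing A] [IsLocalRing A] [IsNoetherianRing A] [IsAdicComplete (maximalIdeal A) A]

/-- The reduction `A/m^(n+1) → A/m^n` as an algebra homomorphism. -/
noncomputable abbrev π (A : Type u) [CommRing A] [IsLocalRing A] (n : ℕ) :
    (A ⧸ maximalIdeal A ^ (n + 1)) →ₐ[A] (A ⧸ maximalIdeal A ^ n) :=
  Ideal.Quotient.factorₐ A (Ideal.pow_le_pow_right (Nat.le_succ n))

/-- `Spec (A/m^n)` as an `A`-scheme. -/
noncomputable abbrev P (A : Type u) [CommRing A] [IsLocalRing A] (n : ℕ) : Over (Spec (CommRingCat.of A)) :=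
  pt A (A ⧸ maximalIdeal A ^ n)

/-- Two morphisms from a finite scheme which agree on all `X × Spec (A/m^n)` agree. -/
theorem hom_ext_fam {X Y : Over (Spec (CommRingCat.of A))} [IsFinite X.hom] {a b : X ⟶ Y}
    (h : ∀ n, fst X (P A n) ≫ a = fst X (P A n) ≫ b) : a = b := by
  refine hom_ext_bc fun n => (map_eq_map_iff _ _ _).2 ?_
  exact congrArg (fun k : X ⊗ P A n ⟶ Y => k.left) (h n)

/-- A compatible system of morphisms `X × Spec (A/m^n) ⟶ Y`, `X` finite, comes from a morphism `X ⟶ Y`. -/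
theorem exists_hom_fam {X Y : Over (Spec (CommRingCat.of A))} [IsFinite X.hom]
    (a : ∀ n, X ⊗ P A n ⟶ Y) (ha : ∀ n, (X ◁ ptMap (π A n)) ≫ a (n + 1) = a n) :
    ∃ u : X ⟶ Y, ∀ n, fst X (P A n) ≫ u = a n := by
  have hw0 : ∀ n, (a n).left ≫ Y.hom = (Red.bc (f A n) X).hom ≫ f A n := fun n =>
    (Over.w (a n)).trans pullback.condition
  obtain ⟨u, hu⟩ := exists_hom_bc (fun n => toBc (f A n) (T := Red.bc (f A n) X) (a n).left (hw0 n)) (fun n => by
    refine bc_hom_ext _ ?_
    rw [mv_left_fst, toBc_left_fst, toBc_left_fst, ← ha n, Over.comp_left]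
    congr 1)
  refine ⟨u, fun n => ?_⟩
  ext1
  have h1 := congrArg (fun k : Red.bc (f A n) X ⟶ Red.bc (f A n) Y => k.left ≫ pullback.fst Y.hom (f A n)) (hu n)
  simp only [toBc_left_fst, ActBC.pullback_map_left_fst] at h1
  exact h1

variable {M G : Over (Spec (CommRingCat.of A))} [GrpObj M] [GrpObj G]

/-- A morphism all of whose restrictions are families of homomorphisms is a homomorphism. -/
theorem isMonHom_of_fam [IsFinite M.hom] (u : M ⟶ G)
    (h : ∀ n, AutFam.IsHomFamily M G (fst M (P A n) ≫ u)) : IsMonHom u := by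
  have hfin : IsFinite (M ⊗ M).hom := inferInstanceAs (IsFinite (pullback.fst M.hom M.hom ≫ M.hom))
  have key : (fst M M * snd M M) ≫ u = (fst M M ≫ u) * (snd M M ≫ u) := by
    refine hom_ext_fam fun n => ?_
    have h1 := h n _ (fst (M ⊗ M) (P A n) ≫ fst M M) (fst (M ⊗ M) (P A n) ≫ snd M M) (snd (M ⊗ M) (P A n))
    simp only [← Category.assoc, lift_fst] at h1
    rw [← Category.assoc, MonObj.comp_mul, h1, MonObj.comp_mul, Category.assoc, Category.assoc]
  exact Groth.Agent.Sga3B.IsoFam.isMonHom_of_mul u fun T x y => by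
    have h2 := congrArg (fun k => lift x y ≫ k) key
    simp only [MonObj.comp_mul, ← Category.assoc, lift_fst, lift_snd] at h2
    exact h2

omit [IsLocalRing A] [IsNoetherianRing A] [IsAdicComplete (maximalIdeal A) A] in
lemma nil_ker {I K : Ideal A} (h : I ≤ K) (k : ℕ) (hk : K ^ k ≤ I) :
    IsNilpotent (RingHom.ker (Ideal.Quotient.factorₐ A h)) := by
  have h1 : RingHom.ker (Ideal.Quotient.factorₐ A h) = K.map (Ideal.Quotient.mk I) := by
    ext x
    obtain ⟨x, rfl⟩ := Ideal.Quotient.mk_surjective x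
    rw [RingHom.mem_ker, Ideal.mem_quotient_iff_mem h]
    exact Ideal.Quotient.eq_zero_iff_mem
  refine ⟨k, ?_⟩
  rw [h1, ← Ideal.map_pow, Ideal.zero_eq_bot, Ideal.map_eq_bot_iff_le_ker, Ideal.mk_ker]
  exact hk

/-- The closed point. -/
noncomputable abbrev P0 (A : Type u) [CommRing A] [IsLocalRing A] : Over (Spec (CommRingCat.of A)) :=
  pt A (A ⧸ maximalIdeal A)

/-- The reduction `A/m → A/m^1`. -/
noncomputable abbrev π0 (A : Type u) [CommRing A] [IsLocalRing A] :
    (A ⧸ maximalIdeal A ^ 1) →ₐ[A] (A ⧸ maximalIdeal A) :=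
  Ideal.Quotient.factorₐ A (Ideal.pow_le_self one_ne_zero)

omit [IsLocalRing A] [IsNoetherianRing A] [IsAdicComplete (maximalIdeal A) A] in
lemma factorₐ_surjective {I K : Ideal A} (h : I ≤ K) : Function.Surjective (Ideal.Quotient.factorₐ A h) :=
  Ideal.Quotient.factor_surjective h

/-- **Lifting homomorphisms** from a finite group of multiplicative type to a smooth group. -/
theorem exists_lift [IsFinite M.hom] (hM : SGA3x.IsMultTypeFT M) [Smooth G.hom]
    (u₀ : Red.bc (cl (maximalIdeal A)) M ⟶ Red.bc (cl (maximalIdeal A)) G) [IsMonHom u₀] :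
    ∃ u : M ⟶ G, IsMonHom u ∧ (Over.pullback (cl (maximalIdeal A))).map u = u₀ := by
  obtain ⟨B, _, _, e, he, l, hl⟩ := K7.MTHaar.exists_model (K21.MultLoc.isMult_of_isMultTypeFT hM)
  have hm := Groth.Agent.Sga3.H802.HomFam.isModel_of_isMonHom e
  let ν := K7.IntDesc.haarOfIsInt hl
  obtain ⟨a1, ha1, ha1'⟩ := K7.FamGen.exists_lift_family (G := G) (e : M ≅ pt A B) hm ν (π := π0 A)
    (factorₐ_surjective _) (nil_ker _ 1 (by rw [pow_one])) (a₀ := fam u₀) (IsoFam.isHomFamily_fam u₀)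
  have step : ∀ n (a : {a : M ⊗ P A (n + 1) ⟶ G // AutFam.IsHomFamily M G a}),
      ∃ b : {b : M ⊗ P A (n + 2) ⟶ G // AutFam.IsHomFamily M G b}, (M ◁ ptMap (π A (n + 1))) ≫ b.1 = a.1 := by
    rintro n ⟨a, ha⟩
    obtain ⟨b, hb, hb'⟩ := K7.FamGen.exists_lift_family (G := G) (e : M ≅ pt A B) hm ν (π := π A (n + 1))
      (factorₐ_surjective _) (nil_ker _ 2 (by
        rw [← pow_mul]; exact Ideal.pow_le_pow_right (by omega))) ha
    exact ⟨⟨b, hb⟩, hb'⟩
  choose F hF using step
  let seq : ∀ n, {a : M ⊗ P A (n + 1) ⟶ G // AutFam.IsHomFamily M G a} := fun n =>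
    Nat.rec ⟨a1, ha1⟩ F n
  have hseq : ∀ n, (M ◁ ptMap (π A (n + 1))) ≫ (seq (n + 1)).1 = (seq n).1 := fun n => hF n (seq n)
  let a : ∀ n, M ⊗ P A n ⟶ G := fun n => match n with
    | 0 => (M ◁ ptMap (π A 0)) ≫ (seq 0).1
    | n + 1 => (seq n).1
  obtain ⟨u, hu⟩ := exists_hom_fam a (by
    rintro (_ | n)
    · rfl
    · exact hseq n)
  have hum : IsMonHom u := by
    refine isMonHom_of_fam u fun n => ?_
    rw [hu]
    rcases n with _ | n
    · exact IsoFam.isHomFamily_pull (seq 0).2 _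
    · exact (seq n).2
  refine ⟨u, hum, BorDesc613.eq_of_ev fun T x t => ?_⟩
  rw [BorDesc613.ev_map, ← lift_fam]
  have h2 : (fam u₀ : M ⊗ P0 A ⟶ G) = fst M (P0 A) ≫ u := by
    rw [← ha1']
    have h3 : fst M (P A 1) ≫ u = a1 := hu 1
    rw [← h3, ← Category.assoc, whiskerLeft_fst]
  have h4 : lift x t ≫ (fam u₀ : M ⊗ P0 A ⟶ G) = x ≫ u := by
    rw [h2, ← Category.assoc, lift_fst]
  exact h4.symm

/-- **Conjugacy**: two homomorphisms from a finite group of multiplicative type to a smooth group which agree over the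
closed point are conjugate by a section which is trivial over the closed point. -/
theorem exists_conj [IsFinite M.hom] (hM : SGA3x.IsMultTypeFT M) [Smooth G.hom] (u u' : M ⟶ G) [IsMonHom u]
    [IsMonHom u'] (h : (Over.pullback (cl (maximalIdeal A))).map u = (Over.pullback (cl (maximalIdeal A))).map u') :
    ∃ g : 𝟙_ (Over (Spec (CommRingCat.of A))) ⟶ G,
      (Over.pullback (cl (maximalIdeal A))).map g = toUnit _ ≫ η[Red.bc (cl (maximalIdeal A)) G] ∧
      ∀ (X : Over (Spec (CommRingCat.of A))) (x : X ⟶ M),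
        x ≫ u' = (toUnit X ≫ g) * (x ≫ u) * (toUnit X ≫ g)⁻¹ := by
  obtain ⟨B, _, _, e, he, l, hl⟩ := K7.MTHaar.exists_model (K21.MultLoc.isMult_of_isMultTypeFT hM)
  have hm := Groth.Agent.Sga3.H802.HomFam.isModel_of_isMonHom e
  let ν := K7.IntDesc.haarOfIsInt hl
  have h0 : fst M (P0 A) ≫ u = fst M (P0 A) ≫ u' := by
    ext1
    exact (map_eq_map_iff (cl (maximalIdeal A)) u u').1 h
  obtain ⟨g1, hg1, hg1'⟩ := K7.ConjLift.exists_conj_lift_family (G := G) (e : M ≅ pt A B) hm ν (π := π0 A)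
    (factorₐ_surjective _) (nil_ker _ 1 (by rw [pow_one])) (K7.ConjGlobal.isHomFamily_fst u (P A 1))
    (K7.ConjGlobal.isHomFamily_fst u' (P A 1)) (1 : P0 A ⟶ G) (by
      rw [MonObj.comp_one, _root_.one_mul, inv_one, _root_.mul_one, ← Category.assoc, whiskerLeft_fst,
        ← Category.assoc, whiskerLeft_fst]
      exact h0.symm)
  let Cj : ∀ n, (P A n ⟶ G) → Prop := fun n g =>
    fst M (P A n) ≫ u' = (snd M (P A n) ≫ g) * (fst M (P A n) ≫ u) * (snd M (P A n) ≫ g)⁻¹
  have hC1 : Cj 1 g1 := by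
    have := hg1' _ (fst M (P A 1)) (snd M (P A 1))
    rwa [lift_fst_snd, Category.id_comp, Category.id_comp] at this
  have step : ∀ n (g : {g : P A (n + 1) ⟶ G // Cj (n + 1) g}),
      ∃ b : {b : P A (n + 2) ⟶ G // Cj (n + 2) b}, ptMap (π A (n + 1)) ≫ b.1 = g.1 := by
    rintro n ⟨g, hg⟩
    obtain ⟨b, hb, hb'⟩ := K7.ConjLift.exists_conj_lift_family (G := G) (e : M ≅ pt A B) hm ν (π := π A (n + 1))
      (factorₐ_surjective _) (nil_ker _ 2 (by
        rw [← pow_mul]; exact Ideal.pow_le_pow_right (by omega)))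
      (K7.ConjGlobal.isHomFamily_fst u (P A (n + 2))) (K7.ConjGlobal.isHomFamily_fst u' (P A (n + 2))) g (by
        rw [← Category.assoc, whiskerLeft_fst, ← Category.assoc, whiskerLeft_fst]
        exact hg)
    refine ⟨⟨b, ?_⟩, hb⟩
    have := hb' _ (fst M (P A (n + 2))) (snd M (P A (n + 2)))
    rwa [lift_fst_snd, Category.id_comp, Category.id_comp] at this
  choose F hF using step
  let seq : ∀ n, {g : P A (n + 1) ⟶ G // Cj (n + 1) g} := fun n => Nat.rec ⟨g1, hC1⟩ F n
  have hseq : ∀ n, ptMap (π A (n + 1)) ≫ (seq (n + 1)).1 = (seq n).1 := fun n => hF n (seq n)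
  let a : ∀ n, P A n ⟶ G := fun n => match n with
    | 0 => ptMap (π A 0) ≫ (seq 0).1
    | n + 1 => (seq n).1
  have ha : ∀ n, ptMap (π A n) ≫ a (n + 1) = a n := by
    rintro (_ | n)
    · rfl
    · exact hseq n
  have hCa : ∀ n, Cj n (a n) := by
    rintro (_ | n)
    · have h3 := congrArg (fun k => (M ◁ ptMap (π A 0)) ≫ k) (seq 0).2
      simp only [MonObj.comp_mul, GrpObj.comp_inv, ← Category.assoc, whiskerLeft_fst, whiskerLeft_snd] at h3
      simp only [Cj, a, ← Category.assoc]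
      exact h3
    · exact (seq n).2
  have hfin : IsFinite (𝟙_ (Over (Spec (CommRingCat.of A)))).hom :=
    inferInstanceAs (IsFinite (𝟙 (Spec (CommRingCat.of A))))
  obtain ⟨g, hg⟩ := exists_hom_fam (X := 𝟙_ (Over (Spec (CommRingCat.of A)))) (fun n => snd _ (P A n) ≫ a n) (fun n => by
    rw [← Category.assoc, whiskerLeft_snd, Category.assoc, ha])
  have hg' : ∀ n, toUnit (P A n) ≫ g = a n := fun n => by
    have h4 := congrArg (fun k => lift (toUnit (P A n)) (𝟙 (P A n)) ≫ k) (hg n)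
    simp only [← Category.assoc, lift_fst, lift_snd, Category.id_comp] at h4
    exact h4
  have h5 : toUnit (P0 A) ≫ g = 1 := by
    have h6 : toUnit (P0 A) = ptMap (π0 A) ≫ toUnit (P A 1) := toUnit_unique _ _
    rw [h6, Category.assoc, hg' 1]
    exact hg1
  refine ⟨g, ?_, ?_⟩
  · have h7 : (Over.pullback (cl (maximalIdeal A))).map g = (Over.pullback (cl (maximalIdeal A))).map 1 := by
      rw [map_eq_map_iff]
      have h8 : fst (𝟙_ (Over (Spec (CommRingCat.of A)))) (P0 A) ≫ g = fst _ (P0 A) ≫ 1 := by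
        have h9 : fst (𝟙_ (Over (Spec (CommRingCat.of A)))) (P0 A) = snd _ (P0 A) ≫ toUnit (P0 A) :=
          toUnit_unique _ _
        rw [MonObj.comp_one, h9, Category.assoc, h5, MonObj.comp_one]
      exact congrArg (fun k => k.left) h8
    rw [h7, Functor.map_one]
    rfl
  · have h10 : u' = (toUnit M ≫ g) * u * (toUnit M ≫ g)⁻¹ := by
      refine hom_ext_fam fun n => ?_
      have h11 : fst M (P A n) ≫ toUnit M ≫ g = snd M (P A n) ≫ a n := by
        rw [← hg' n, ← Category.assoc, ← Category.assoc]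
        congr 1
        exact toUnit_unique _ _
      rw [MonObj.comp_mul, MonObj.comp_mul, GrpObj.comp_inv, h11]
      exact hCa n
    intro X x
    conv_lhs => rw [h10]
    rw [MonObj.comp_mul, MonObj.comp_mul, GrpObj.comp_inv, ← Category.assoc, toUnit_unique (x ≫ toUnit M) (toUnit X)]

end K13.LiftAdic
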