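import Groth.Agent.SGA3x.K13.AdicBc
import Groth.Agent.SGA3x.K14.FinLift
import Groth.Agent.SGA3x.K10.MTLoc
import Groth.Agent.Sga3B.BorDesc613
import Groth.Statements.S5295

/-!
# Central homomorphisms over a complete Noetherian local ring (S8389)
-/

set_option autoImplicit false

universe u

open CategoryTheory MonoidalCategory CartesianMonoidalCategory MonObj GrpObj AlgebraicGeometry Limits
open IsLocalRing K210.LimHom

namespace K13.CentralAdic

open K13.AdicBc Groth.Agent.Sga3B.BcPts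

/-- Over a locally Noetherian base finite type implies finite presentation. -/
theorem lfp_of_lft {Z S : Scheme.{u}} (f : Z ⟶ S)
    [IsLocallyNoetherian S] [LocallyOfFiniteType f] : LocallyOfFinitePresentation f := by
  rw [HasRingHomProperty.iff_appLE (P := @LocallyOfFinitePresentation)]
  intro U V e
  have := IsLocallyNoetherian.component_noetherian U
  have h := f.finiteType_appLE U.2 V.2 e
  algebraize [(f.appLE U V e).hom]
  exact RingHom.finitePresentation_algebraMap.mpr (Algebra.FinitePresentation.of_finiteType.mp ‹_›)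

section general

variable {S S' : Scheme.{u}} {f : S' ⟶ S} {M G : Over S} [GrpObj G]

/-- Commutation over `S'` in terms of points over `S`. -/
lemma comm_of_bc {u : M ⟶ G}
    (hc : ∀ (X : Over S') (x : X ⟶ Red.bc f M) (g : X ⟶ Red.bc f G),
      (x ≫ (Over.pullback f).map u) * g = g * (x ≫ (Over.pullback f).map u))
    {T : Over S} (t : T ⟶ Over.mk f) (x : T ⟶ M) (g : T ⟶ G) : (x ≫ u) * g = g * (x ≫ u) := by
  have h1 := hc (Over.mk t.left) (bcEquiv f _ M ((overIso t).hom ≫ x)) (bcEquiv f _ G ((overIso t).hom ≫ g))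
  rw [← bcEquiv_comp, ← bcEquiv_mul, ← bcEquiv_mul] at h1
  have h2 := (bcEquiv f _ G).injective h1
  rw [Category.assoc, ← MonObj.comp_mul, ← MonObj.comp_mul, cancel_epi] at h2
  exact h2

lemma bc_of_comm {u : M ⟶ G}
    (h : ∀ (T : Over S) (_ : T ⟶ Over.mk f) (x : T ⟶ M) (g : T ⟶ G), (x ≫ u) * g = g * (x ≫ u))
    (X : Over S') (x : X ⟶ Red.bc f M) (g : X ⟶ Red.bc f G) :
      (x ≫ (Over.pullback f).map u) * g = g * (x ≫ (Over.pullback f).map u) := by
  apply (bcEquiv f X G).symm.injective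
  have h1 := h ((Over.map f).obj X) (Over.homMk X.hom) ((bcEquiv f X M).symm x) ((bcEquiv f X G).symm g)
  have h2 : ∀ a b : X ⟶ Red.bc f G, (bcEquiv f X G).symm (a * b) = (bcEquiv f X G).symm a * (bcEquiv f X G).symm b :=
    (bcMulEquiv f X G).symm.map_mul
  rw [h2, h2, bcEquiv_symm_comp]
  exact h1

lemma mv_map {S₂ : Scheme.{u}} (g : S₂ ⟶ S') (f : S' ⟶ S) {d : S₂ ⟶ S} (h : g ≫ f = d) {X Y : Over S} (v : X ⟶ Y) :
    mv g f h ((Over.pullback f).map v) = (Over.pullback d).map v := by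
  rw [mv, ActBC.bcCompIso_hom_naturality, Iso.inv_hom_id_assoc]


/-- **Relative lifting**: `g : S₂ ⟶ S₁` a surjective closed immersion over `S`; central homomorphisms over `S₂` lift
uniquely to `S₁`. -/
theorem exists_lift_rel {S₁ S₂ : Scheme.{u}} (g : S₂ ⟶ S₁) (f : S₁ ⟶ S) {d : S₂ ⟶ S} (h : g ≫ f = d)
    [IsClosedImmersion g] [Surjective g] {M G : Over S} [GrpObj M] [GrpObj G] [Smooth M.hom] [IsFinite M.hom]
    (hM : SGA3x.IsMultTypeFT M) [Flat G.hom] [LocallyOfFinitePresentation G.hom]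
    (u₀ : Red.bc d M ⟶ Red.bc d G) [IsMonHom u₀]
    (hc₀ : ∀ (X : Over S₂) (x : X ⟶ Red.bc d M) (g : X ⟶ Red.bc d G), (x ≫ u₀) * g = g * (x ≫ u₀)) :
    ∃ w : Red.bc f M ⟶ Red.bc f G, IsMonHom w ∧ mv g f h w = u₀ ∧
      (∀ (X : Over S₁) (x : X ⟶ Red.bc f M) (g : X ⟶ Red.bc f G), (x ≫ w) * g = g * (x ≫ w)) ∧
      ∀ w' : Red.bc f M ⟶ Red.bc f G, IsMonHom w' → mv g f h w' = u₀ → w' = w := by
  have i4 : Smooth (Red.bc f M).hom := inferInstanceAs (Smooth (pullback.snd M.hom f))
  have i5 : IsFinite (Red.bc f M).hom := inferInstanceAs (IsFinite (pullback.snd M.hom f))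
  have i6 : Flat (Red.bc f G).hom := inferInstanceAs (Flat (pullback.snd G.hom f))
  have i7 : LocallyOfFinitePresentation (Red.bc f G).hom :=
    inferInstanceAs (LocallyOfFinitePresentation (pullback.snd G.hom f))
  let eM := ActBC.bcCompIso g f M h
  let eG := ActBC.bcCompIso g f G h
  let u₀' : Red.bc g (Red.bc f M) ⟶ Red.bc g (Red.bc f G) :=
    eM.hom ≫ u₀ ≫ eG.inv
  have hm : IsMonHom u₀' := inferInstance
  obtain ⟨w, hw, hw₀, hwc, hwu⟩ := K14.FinLift.main g (Red.bc f G) (Red.bc f M) u₀'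
    (fun X x g => by
      have h1 := hc₀ X (x ≫ eM.hom) (g ≫ eG.hom)
      have h2 : x ≫ u₀' = ((x ≫ eM.hom) ≫ u₀) ≫ eG.inv := by simp [u₀']
      have h3 : g = (g ≫ eG.hom) ≫ eG.inv := by simp
      rw [h2, h3, ← MonObj.mul_comp, h1, MonObj.mul_comp, ← h3]) (K10.MTLoc.bc _ hM)
  exact ⟨w, hw, (map_eq_iff_mv _ _ _ _ _).1 hw₀, hwc, fun w' hw' h' => hwu w' hw' ((map_eq_iff_mv _ _ _ _ _).2 h')⟩

end general

variable {A : Type u} [CommRing A] [IsLocalRing A] [IsNoetherianRing A] [IsAdicComplete (maximalIdeal A) A]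

/-- The closed point. -/
noncomputable abbrev q (A : Type u) [CommRing A] [IsLocalRing A] :
    Spec (CommRingCat.of (A ⧸ maximalIdeal A)) ⟶ Spec (CommRingCat.of A) := cl (maximalIdeal A)

/-- The closed point of `Spec (A/m^(n+1))`. -/
noncomputable abbrev qn (A : Type u) [CommRing A] [IsLocalRing A] (n : ℕ) :
    Spec (CommRingCat.of (A ⧸ maximalIdeal A)) ⟶ Spec (CommRingCat.of (A ⧸ maximalIdeal A ^ (n + 1))) :=
  Spec.map (CommRingCat.ofHom (Ideal.Quotient.factor (Ideal.pow_le_self (Nat.succ_ne_zero n))))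

omit [IsNoetherianRing A] [IsAdicComplete (maximalIdeal A) A] in
lemma qn_f (n : ℕ) : qn A n ≫ f A (n + 1) = q A := by
  rw [← Spec.map_comp]
  rfl

omit [IsNoetherianRing A] [IsAdicComplete (maximalIdeal A) A] in
lemma qn_t (n : ℕ) : qn A n ≫ t A (n + 1) = qn A (n + 1) := by
  rw [← Spec.map_comp]
  congr 1
  ext a
  rfl

omit [IsNoetherianRing A] [IsAdicComplete (maximalIdeal A) A] in
lemma isClosedImmersion_qn (n : ℕ) : IsClosedImmersion (qn A n) :=
  IsClosedImmersion.spec_of_surjective _ (Ideal.Quotient.factor_surjective (Ideal.pow_le_self (Nat.succ_ne_zero n)))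

omit [IsNoetherianRing A] [IsAdicComplete (maximalIdeal A) A] in
lemma surjective_qn (n : ℕ) : Surjective (qn A n) := by
  constructor
  intro x
  have hx := x.2
  have h1 : RingHom.ker (Ideal.Quotient.factor (Ideal.pow_le_self (I := maximalIdeal A) (Nat.succ_ne_zero n))) ≤
      x.asIdeal := by
    intro a ha
    obtain ⟨a, rfl⟩ := Ideal.Quotient.mk_surjective a
    have h2 : a ∈ maximalIdeal A := by
      rw [← Ideal.Quotient.eq_zero_iff_mem]
      exact ha
    refine hx.mem_of_pow_mem (n + 1) ?_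
    rw [← map_pow, Ideal.Quotient.eq_zero_iff_mem.2 (Ideal.pow_mem_pow h2 _)]
    exact zero_mem _
  have h3 : x ∈ Set.range (PrimeSpectrum.comap
      (Ideal.Quotient.factor (Ideal.pow_le_self (I := maximalIdeal A) (Nat.succ_ne_zero n)))) := by
    rw [range_comap_of_surjective _ _ (Ideal.Quotient.factor_surjective _)]
    exact h1
  exact h3

variable {M : Over (Spec (CommRingCat.of A))} [GrpObj M] [IsFinite M.hom] [Smooth M.hom] (hM : SGA3x.IsMultTypeFT M)
    {G : Over (Spec (CommRingCat.of A))} [GrpObj G] [Flat G.hom] [LocallyOfFiniteType G.hom]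
    (u₀ : Red.bc (q A) M ⟶ Red.bc (q A) G) [IsMonHom u₀]
    (hc₀ : ∀ (X : Over _) (x : X ⟶ Red.bc (q A) M) (g : X ⟶ Red.bc (q A) G), (x ≫ u₀) * g = g * (x ≫ u₀))

include hM hc₀ in
/-- The unique lift over `A/m^(n+1)`. -/
theorem exists_lift_n (n : ℕ) : ∃ w : Red.bc (f A (n + 1)) M ⟶ Red.bc (f A (n + 1)) G, IsMonHom w ∧
    mv (qn A n) (f A (n + 1)) (qn_f n) w = u₀ ∧
    ∀ w' : Red.bc (f A (n + 1)) M ⟶ Red.bc (f A (n + 1)) G, IsMonHom w' →
      mv (qn A n) (f A (n + 1)) (qn_f n) w' = u₀ → w' = w := by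
  have i1 := isClosedImmersion_qn (A := A) n
  have i2 := surjective_qn (A := A) n
  have i3 : LocallyOfFinitePresentation G.hom := lfp_of_lft G.hom
  obtain ⟨w, hw, h1, h2, h3⟩ := exists_lift_rel (qn A n) (f A (n + 1)) (qn_f n) hM u₀ hc₀
  exact ⟨w, hw, h1, h3⟩

include hM hc₀ in
theorem existsUnique : ∃ u : M ⟶ G, IsMonHom u ∧ (Over.pullback (q A)).map u = u₀ ∧
      ∀ u' : M ⟶ G, IsMonHom u' → (Over.pullback (q A)).map u' = u₀ → u' = u := by
  choose v hv hv₀ hvu using exists_lift_n hM u₀ hc₀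
  let w : ∀ n, Red.bc (f A n) M ⟶ Red.bc (f A n) G := fun n => match n with
    | 0 => mv (t A 0) (f A 1) (t_f 0) (v 0)
    | n + 1 => v n
  have hw : ∀ n, mv (t A n) (f A (n + 1)) (t_f n) (w (n + 1)) = w n := by
    rintro (_ | n)
    · rfl
    · refine hvu n _ ?_ ?_
      · have := hv (n + 1)
        exact inferInstance
      · exact (mv_mv (qn A n) (t A (n + 1)) (f A (n + 2)) (qn_t n) (t_f (n + 1)) (qn_f (n + 1)) (qn_f n) _).trans
          (hv₀ (n + 1))
  have hwm : ∀ n, IsMonHom (w n) := by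
    rintro (_ | n)
    · have := hv 0
      exact isMonHom_mv _ _ _ _
    · exact hv n
  obtain ⟨u, hu⟩ := exists_hom_bc w hw
  have hfin : IsFinite (M ⊗ M).hom := inferInstanceAs (IsFinite (pullback.fst M.hom M.hom ≫ M.hom))
  have hum : IsMonHom u := by
    refine isMonHom_of_mul _ (hom_ext_bc fun n => ?_)
    rw [← isMonHom_map_iff, hu]
    exact hwm n
  have hq : ∀ u' : M ⟶ G, (Over.pullback (q A)).map u' =
      mv (qn A 0) (f A 1) (qn_f 0) ((Over.pullback (f A 1)).map u') := fun u' => (mv_map _ _ _ _).symm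
  refine ⟨u, hum, ?_, fun u' hu' h' => hom_ext_bc fun n => ?_⟩
  · rw [hq, hu]
    exact hv₀ 0
  · have key : ∀ n, (Over.pullback (f A (n + 1))).map u' = w (n + 1) := fun n =>
      hvu n _ inferInstance ((mv_map _ _ _ _).trans h')
    rw [hu]
    rcases n with _ | n
    · rw [← mv_map (t A 0) (f A 1) (t_f 0) u', key 0]
    · exact key n

omit [IsNoetherianRing A] [IsAdicComplete (maximalIdeal A) A] in
lemma exists_residue : ∃ r : Spec ((Spec (CommRingCat.of A)).residueField (closedPoint A)) ⟶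
    Spec (CommRingCat.of (A ⧸ maximalIdeal A)),
    r ≫ q A = (Spec (CommRingCat.of A)).fromSpecResidueField (closedPoint A) := by
  obtain ⟨φ, hφ⟩ := Spec.map_surjective ((Spec (CommRingCat.of A)).fromSpecResidueField (closedPoint A))
  have h1 : ∀ a ∈ maximalIdeal A, φ.hom a = 0 := by
    intro a ha
    let p : Spec ((Spec (CommRingCat.of A)).residueField (closedPoint A)) :=
      closedPoint ((Spec (CommRingCat.of A)).residueField (closedPoint A))
    have h2 : (Spec.map φ) p = closedPoint A := by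
      rw [hφ]
      exact Scheme.fromSpecResidueField_apply _ _
    have h3 : p.asIdeal.comap φ.hom = maximalIdeal A := congrArg PrimeSpectrum.asIdeal h2
    have h4 : a ∈ p.asIdeal.comap φ.hom := by rw [h3]; exact ha
    have h5 : p.asIdeal = ⊥ := Ideal.eq_bot_of_prime p.asIdeal
    rw [h5] at h4
    exact h4
  refine ⟨Spec.map (CommRingCat.ofHom (Ideal.Quotient.lift _ φ.hom h1)), ?_⟩
  rw [← hφ, ← Spec.map_comp]
  rfl

omit [IsAdicComplete (maximalIdeal A) A] [IsFinite M.hom] [Smooth M.hom] [Flat G.hom] in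
include hM hc₀ in
/-- Centrality when the fibres are connected. -/
theorem central (h5295 : type_of% @SGA3x.GrothFrozen.S5295.{u}) [QuasiCompact G.hom]
    (hconn : ∀ s : (Spec (CommRingCat.of A)), _root_.IsConnected (G.hom.base ⁻¹' {s}))
    (u : M ⟶ G) [IsMonHom u] (hu : (Over.pullback (q A)).map u = u₀)
    (X : Over (Spec (CommRingCat.of A))) (x : X ⟶ M) (g : X ⟶ G) : (x ≫ u) * g = g * (x ≫ u) := by
  have i3 : LocallyOfFinitePresentation G.hom := lfp_of_lft G.hom
  have i4 : IsLocallyNoetherian G.left := LocallyOfFiniteType.isLocallyNoetherian G.hom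
  have i5 : QuasiSeparated G.hom := inferInstance
  subst hu
  obtain ⟨U, hs, hU⟩ := h5295 M G hM (fun t => by
      have h1 : ConnectedSpace (G.hom ⁻¹' {t} : Set G.left) := isConnected_iff_connectedSpace.mp (hconn t)
      exact (G.hom.fiberHomeo t).symm.surjective.connectedSpace (G.hom.fiberHomeo t).symm.continuous)
    u (closedPoint A) (by
      intro X g x
      symm
      refine bc_of_comm (f := (Spec (CommRingCat.of A)).fromSpecResidueField (closedPoint A)) ?_ X x g
      intro T t x g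
      obtain ⟨r, hr⟩ := exists_residue (A := A)
      exact comm_of_bc hc₀ (t ≫ Over.homMk r hr) x g)
  have hU' : U = ⊤ := (closedPoint_mem_iff U).1 hs
  subst hU'
  exact (hU X (Over.homMk (IsOpenImmersion.lift (Scheme.Opens.ι ⊤) X.hom (by simp)) (by simp)) g x).symm

end K13.CentralAdic
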