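import Groth.Agent.SGA3x.K13.MTLift
import Groth.Agent.Sga3B.SmoothNear
import Mathlib.AlgebraicGeometry.Morphisms.Integral
import Mathlib.AlgebraicGeometry.Morphisms.Finite

/-!
# Properties of lifts along nil ideals

`J` a nil ideal of `A`, `H` a group over `Spec A` with reduction `H₀`: `H` is smooth, finite if `H₀` is.
-/

set_option autoImplicit false

universe u

open CategoryTheory MonoidalCategory CartesianMonoidalCategory MonObj GrpObj AlgebraicGeometry Limits
open TensorProduct
open Groth.Agent Groth.Agent.Sga3B

namespace K13.MTLift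

variable {A : Type u} [CommRing A] {J : Ideal A} (hJ : ∀ x ∈ J, IsNilpotent x)

include hJ

/-- Points with values in fields factor through the closed subscheme defined by a nil ideal. -/
lemma exists_factor_field {K : Type u} [Field K] (q : Spec (CommRingCat.of K) ⟶ Spec (CommRingCat.of A)) :
    ∃ p : Spec (CommRingCat.of K) ⟶ Spec (CommRingCat.of (A ⧸ J)), p ≫ cl J = q := by
  obtain ⟨φ, rfl⟩ := Spec.map_surjective q
  refine ⟨Spec.map (CommRingCat.ofHom (Ideal.Quotient.lift J φ.hom
    (fun a ha => ((hJ a ha).map φ.hom).eq_zero))), ?_⟩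
  rw [← Spec.map_comp]
  rfl

/-- The closed immersion is surjective. -/
lemma surjective_cl : Surjective (cl J) := by
  constructor
  intro x
  have h1 : J ≤ x.asIdeal := fun a ha => by
    obtain ⟨n, hn⟩ := hJ a ha
    exact x.isPrime.mem_of_pow_mem n (by rw [hn]; exact Ideal.zero_mem _)
  have h2 : x ∈ Set.range (PrimeSpectrum.comap (Ideal.Quotient.mk J)) := by
    rw [range_comap_of_surjective _ _ Ideal.Quotient.mk_surjective, Ideal.mk_ker]
    exact h1
  exact h2

variable {H : Over (Spec (CommRingCat.of A))} {H₀ : Over (Spec (CommRingCat.of (A ⧸ J)))}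

lemma bc_geomFibre_hom (e : Red.bc (cl J) H ≅ H₀) (P : MorphismProperty Scheme.{u}) [P.IsStableUnderBaseChange]
    (h : P H₀.hom) (s : Spec (CommRingCat.of A)) : P (Red.geomFibre s H).hom := by
  obtain ⟨p, hp⟩ := exists_factor_field hJ (Red.geomPt s)
  have h1 : P (Red.bc (cl J) H).hom := by
    have h2 : (Red.bc (cl J) H).hom = e.hom.left ≫ H₀.hom := (Over.w e.hom).symm
    rw [h2]
    have : P.RespectsIso := inferInstance
    have i1 : IsIso e.hom.left := inferInstanceAs (IsIso ((Over.forget _).map e.hom))
    exact (P.cancel_left_of_respectsIso _ _).mpr h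
  have h3 : IsPullback (pullback.fst H.hom (Red.geomPt s)) (pullback.snd H.hom (Red.geomPt s)) H.hom (p ≫ cl J) := by
    rw [hp]; exact IsPullback.of_hasPullback _ _
  have h4 : IsPullback (pullback.fst H.hom (cl J)) (pullback.snd H.hom (cl J)) H.hom (cl J) :=
    IsPullback.of_hasPullback _ _
  have h5 := IsPullback.of_right' h3 h4
  exact MorphismProperty.of_isPullback h5 h1

/-- A flat group scheme locally of finite presentation is smooth if its reduction is. -/
theorem smooth_of_reduction [GrpObj H] [Flat H.hom] [LocallyOfFinitePresentation H.hom] (e : Red.bc (cl J) H ≅ H₀)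
    (h : Smooth H₀.hom) : Smooth H.hom := by
  have h1 : ∀ s : Spec (CommRingCat.of A), ∃ V : (Spec (CommRingCat.of A)).Opens, s ∈ V ∧ Smooth (H.hom ∣_ V) :=
    fun s => SmoothNear.exists_opens_smooth H s (bc_geomFibre_hom hJ e @Smooth h s)
  choose V hV hVs using h1
  refine (IsZariskiLocalAtTarget.iff_of_iSup_eq_top (P := @Smooth) V ?_).mpr hVs
  rw [eq_top_iff]
  intro s _
  exact TopologicalSpace.Opens.mem_iSup.mpr ⟨s, hV s⟩

/-- An affine morphism locally of finite type is finite if its reduction is. -/
theorem isFinite_of_reduction [IsAffineHom H.hom] [LocallyOfFiniteType H.hom] (e : Red.bc (cl J) H ≅ H₀)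
    (h : IsFinite H₀.hom) : IsFinite H.hom := by
  have h1 : IsFinite (Red.bc (cl J) H).hom := by
    have h2 : (Red.bc (cl J) H).hom = e.hom.left ≫ H₀.hom := (Over.w e.hom).symm
    have i1 : IsIso e.hom.left := inferInstanceAs (IsIso ((Over.forget _).map e.hom))
    rw [h2]
    infer_instance
  have h3 : UniversallyClosed (pullback.fst H.hom (cl J) ≫ H.hom) := by
    rw [pullback.condition]
    have i1 : IsFinite (pullback.snd H.hom (cl J)) := h1
    have i2 : IsClosedImmersion (cl J) :=
      IsClosedImmersion.spec_of_surjective _ Ideal.Quotient.mk_surjective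
    infer_instance
  have h4 : Surjective (pullback.fst H.hom (cl J)) := by
    have := surjective_cl hJ
    infer_instance
  have h5 : UniversallyClosed H.hom := UniversallyClosed.of_comp_surjective (pullback.fst H.hom (cl J)) H.hom
  rw [IsFinite.iff_isIntegralHom_and_locallyOfFiniteType, IsIntegralHom.iff_universallyClosed_and_isAffineHom]
  exact ⟨⟨h5, inferInstance⟩, inferInstance⟩

end K13.MTLift
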